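import Cfsg.Agent.Lib.AbelianFixed.Setup
import Cfsg.Agent.Lib.Solvable.NilpotentFrattini
import Mathlib.Algebra.BigOperators.Group.Finset.Basic

/-!
A fixed-point-free automorphism of prime order on an operator group forces the operators to act
trivially once the fixed points of the automorphism are fixed by the operators.
-/

set_option autoImplicit false

namespace Cfsg.Agent.AbelianFixed

open Subgroup
open scoped commutatorElement
open Cfsg.Agent.CoprimeAct Cfsg.Agent.SolvBasic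

universe u

variable {X : Type u} [Group X] [Finite X]

theorem conj_pow_mem {Y : Subgroup X} {e : X} (he : e ∈ normalizer (Y : Set X)) (i : ℕ) {y : X}
    (hy : y ∈ Y) : e ^ i * y * (e ^ i)⁻¹ ∈ Y :=
  conj_mem_of_mem_normalizer (pow_mem he i) hy

theorem key_abelian {Y Z : Subgroup X} {e : X} {q : ℕ} (hq : q.Prime) (he : e ^ q = 1)
    (hY : ∀ x ∈ Y, ∀ y ∈ Y, x * y = y * x) (heY : e ∈ normalizer (Y : Set X))
    (heZ : e ∈ normalizer (Z : Set X)) (hZY : Z ≤ normalizer (Y : Set X))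
    (hcop : (Nat.card Z).Coprime (Nat.card Y)) (hZe : Z ⊓ centralizer ({e} : Set X) = ⊥)
    (hfix : ∀ y ∈ Y, e * y = y * e → ∀ z ∈ Z, z * y = y * z) :
    Z ≤ centralizer (Y : Set X) := by
  classical
  haveI := Fintype.ofFinite Z
  letI : CommGroup Y := { Y.toGroup with mul_comm := fun a b => Subtype.ext (hY a a.2 b b.2) }
  let w : Y → Y := fun y => ∏ i ∈ Finset.range q, ⟨e ^ i * y * (e ^ i)⁻¹, conj_pow_mem heY i y.2⟩
  let cj : ∀ g : X, g ∈ normalizer (Y : Set X) → (Y →* Y) := fun g hg =>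
    MonoidHom.mk' (fun y => ⟨g * y * g⁻¹, conj_mem_of_mem_normalizer hg y.2⟩) fun a b =>
      Subtype.ext (by simp [mul_assoc])
  have hwfix : ∀ y, cj e heY (w y) = w y := by
    intro y
    have hterm : ∀ i : ℕ, cj e heY ⟨e ^ i * y * (e ^ i)⁻¹, conj_pow_mem heY i y.2⟩ =
        (⟨e ^ (i + 1) * y * (e ^ (i + 1))⁻¹, conj_pow_mem heY (i + 1) y.2⟩ : Y) := fun i =>
      Subtype.ext (show e * (e ^ i * (y : X) * (e ^ i)⁻¹) * e⁻¹ = e ^ (i + 1) * (y : X) * (e ^ (i + 1))⁻¹ by
        rw [pow_succ' e i]; group)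
    rw [map_prod, Finset.prod_congr rfl fun i _ => hterm i]
    let φ : ℕ → Y := fun i => ⟨e ^ i * y * (e ^ i)⁻¹, conj_pow_mem heY i y.2⟩
    have hp : φ q = φ 0 := Subtype.ext (by simp [φ, he])
    show ∏ i ∈ Finset.range q, φ (i + 1) = ∏ i ∈ Finset.range q, φ i
    apply mul_right_cancel (b := φ 0)
    rw [← Finset.prod_range_succ', Finset.prod_range_succ, hp]
  have hZw : ∀ (y : Y) (z : X) (hz : z ∈ Z), cj z (hZY hz) (w y) = w y := by
    intro y z hz
    refine Subtype.ext ?_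
    show z * (w y : X) * z⁻¹ = w y
    have h1 : e * (w y : X) = w y * e := by
      have := congrArg Subtype.val (hwfix y)
      exact mul_inv_eq_iff_eq_mul.1 this
    exact conj_eq_of_commute (hfix _ (w y).2 h1 z hz)
  have heZi : ∀ (i : ℕ) (x : Z), (x : X) * e ^ i * (x : X)⁻¹ * (e ^ i)⁻¹ ∈ Z := fun i x => by
    rw [mul_assoc, mul_assoc]
    refine mul_mem x.2 ?_
    rw [← mul_assoc]
    exact conj_mem_of_mem_normalizer (pow_mem heZ i) (inv_mem x.2)
  intro z hz
  rw [mem_centralizer_iff]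
  intro y₀ hy₀
  set y : Y := ⟨y₀, hy₀⟩ with hy
  -- the norm identity
  let term : ℕ → Z → Y := fun i x =>
    cj x (hZY x.2) (cj (e ^ i) (pow_mem heY i) (cj (x : X)⁻¹ (inv_mem (hZY x.2)) y))
  have hleft : ∀ x : Z, ∏ i ∈ Finset.range q, term i x =
      w (cj (x : X)⁻¹ (inv_mem (hZY x.2)) y) := by
    intro x
    rw [← hZw (cj (x : X)⁻¹ (inv_mem (hZY x.2)) y) x x.2, map_prod]
    rfl
  have hfixed : ∀ i ∈ Finset.range q, i ≠ 0 →
      cj z (hZY hz) (∏ x : Z, term i x) = ∏ x : Z, term i x := by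
    intro i hi hi0
    have hgen : ∀ g : X, e ^ i * g = g * e ^ i → e * g = g * e := by
      intro g hg
      have hcop : i.Coprime q := ((hq.coprime_iff_not_dvd).2 fun hd => hi0
        (Nat.eq_zero_of_dvd_of_lt hd (Finset.mem_range.1 hi))).symm
      have hop : i.Coprime (orderOf e) := hcop.coprime_dvd_right (orderOf_dvd_of_pow_eq_one he)
      obtain ⟨m, hm⟩ := exists_pow_eq_self_of_coprime hop
      rw [← hm]
      exact Commute.pow_left hg m
    let σ : Z → Z := fun x => ⟨_, heZi i x⟩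
    have hσ : Function.Bijective σ := by
      refine Finite.injective_iff_bijective.1 fun a b hab => ?_
      have h1 : (a : X) * e ^ i * (a : X)⁻¹ = b * e ^ i * (b : X)⁻¹ :=
        mul_right_cancel (congrArg Subtype.val hab)
      have h2 : e ^ i * ((b : X)⁻¹ * a) = ((b : X)⁻¹ * a) * e ^ i := by
        calc e ^ i * ((b : X)⁻¹ * a) = (b : X)⁻¹ * (b * e ^ i * (b : X)⁻¹) * a := by group
          _ = (b : X)⁻¹ * (a * e ^ i * (a : X)⁻¹) * a := by rw [h1]
          _ = ((b : X)⁻¹ * a) * e ^ i := by group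
      have h3 : (b : X)⁻¹ * a ∈ Z ⊓ centralizer ({e} : Set X) :=
        Subgroup.mem_inf.2 ⟨mul_mem (inv_mem b.2) a.2, mem_centralizer_one.2 (hgen _ h2)⟩
      rw [hZe, mem_bot, inv_mul_eq_one] at h3
      exact Subtype.ext h3.symm
    let y' : Y := cj (e ^ i) (pow_mem heY i) y
    have hrew : ∀ x : Z, term i x = cj (σ x) (hZY (σ x).2) y' := fun x => Subtype.ext (by
      show (x : X) * (e ^ i * ((x : X)⁻¹ * y₀ * (x : X)⁻¹⁻¹) * (e ^ i)⁻¹) * (x : X)⁻¹ =
        ((x : X) * e ^ i * (x : X)⁻¹ * (e ^ i)⁻¹) * (e ^ i * y₀ * (e ^ i)⁻¹) *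
          ((x : X) * e ^ i * (x : X)⁻¹ * (e ^ i)⁻¹)⁻¹
      group)
    have hnorm : ∏ x : Z, term i x = ∏ x : Z, cj x (hZY x.2) y' := by
      rw [Finset.prod_congr rfl fun x _ => hrew x]
      exact Fintype.prod_equiv (Equiv.ofBijective σ hσ) _ _ fun x => rfl
    rw [hnorm, map_prod]
    refine Fintype.prod_equiv (Equiv.mulLeft (⟨z, hz⟩ : Z)) _ _ fun x => Subtype.ext ?_
    show z * ((x : X) * (y' : X) * (x : X)⁻¹) * z⁻¹ =
      (z * (x : X)) * (y' : X) * (z * (x : X))⁻¹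
    group
  have h0 : ∀ x : Z, term 0 x = y := fun x => Subtype.ext (by
    show (x : X) * (e ^ 0 * ((x : X)⁻¹ * y₀ * (x : X)⁻¹⁻¹) * (e ^ 0)⁻¹) * (x : X)⁻¹ = y₀
    rw [pow_zero]; group)
  have hall : cj z (hZY hz) (∏ i ∈ Finset.range q, ∏ x : Z, term i x) =
      ∏ i ∈ Finset.range q, ∏ x : Z, term i x := by
    rw [Finset.prod_comm, Finset.prod_congr rfl fun x _ => hleft x, map_prod]
    exact Finset.prod_congr rfl fun x _ => hZw _ z hz
  have herase : cj z (hZY hz) (∏ i ∈ (Finset.range q).erase 0, ∏ x : Z, term i x) =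
      ∏ i ∈ (Finset.range q).erase 0, ∏ x : Z, term i x := by
    rw [map_prod]
    exact Finset.prod_congr rfl fun i hi => hfixed i (Finset.mem_of_mem_erase hi)
      (Finset.ne_of_mem_erase hi)
  rw [← Finset.mul_prod_erase _ _ (Finset.mem_range.2 hq.pos), map_mul, herase, mul_left_inj,
    Finset.prod_congr rfl fun x _ => h0 x, Finset.prod_const, Finset.card_univ, map_pow] at hall
  have hc2 : (Nat.card Y).Coprime (Fintype.card Z) := by
    rw [← Nat.card_eq_fintype_card]; exact hcop.symm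
  have hy1 : cj z (hZY hz) y = y := (powCoprime hc2).injective hall
  have h4 : z * y₀ * z⁻¹ = y₀ := congrArg Subtype.val hy1
  exact (mul_inv_eq_iff_eq_mul.1 h4).symm

theorem key {S Z : Subgroup X} {e : X} {q r : ℕ} [Fact r.Prime] (hq : q.Prime) (he : e ^ q = 1)
    (hS : IsPGroup r S) (heS : e ∈ normalizer (S : Set X)) (heZ : e ∈ normalizer (Z : Set X))
    (hqr : ¬ q ∣ Nat.card S) (hZS : Z ≤ normalizer (S : Set X))
    (hcop : (Nat.card Z).Coprime (Nat.card S)) (hZe : Z ⊓ centralizer ({e} : Set X) = ⊥)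
    (hfix : ∀ s ∈ S, e * s = s * e → ∀ z ∈ Z, z * s = s * z) :
    Z ≤ centralizer (S : Set X) := by
  set D : Subgroup X := (frattini S).map S.subtype with hD
  have hDS : D ≤ S := map_subtype_le _
  have hnorm : normalizer (S : Set X) ≤ normalizer (D : Set X) :=
    normalizer_le_char (hK := frattini_characteristic) (frattini S)
  have hSD : S ≤ QN D := le_normalizer.trans hnorm
  have hZD : Z ≤ QN D := hZS.trans hnorm
  have heD : e ∈ QN D := hnorm heS
  have hcommD : ∀ x ∈ S, ∀ y ∈ S, x * y * x⁻¹ * y⁻¹ ∈ D := by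
    intro x hx y hy
    have := @Cfsg.Agent.SolvStruct.commutator_le_frattini S _ _ hS.isNilpotent _
      (commutator_mem_commutator (mem_top (⟨x, hx⟩ : S)) (mem_top (⟨y, hy⟩ : S)))
    exact ⟨_, this, rfl⟩
  refine le_centralizer_of_frattini hZS ((hcop).coprime_dvd_right
    (card_subgroup_dvd_card _)) fun z hz s hs => ?_
  have hZi : qimg D Z ≤ centralizer (qimg D S : Set (QT D)) := by
    refine key_abelian (e := qmk D ⟨e, heD⟩) hq ?_ (qimg_comm hcommD)
      (qimg_normalizer (U := zpowers e) (zpowers_le.2 heS) (mk_mem_qimg _ (mem_zpowers e)))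
      (qimg_normalizer (U := zpowers e) (zpowers_le.2 heZ) (mk_mem_qimg _ (mem_zpowers e)))
      (qimg_normalizer hZS)
      (hcop.coprime_dvd_left (card_qimg_dvd hZD) |>.coprime_dvd_right (card_qimg_dvd hSD)) ?_ ?_
    · rw [← map_pow, show (⟨e, heD⟩ : QN D) ^ q = 1 from Subtype.ext he, map_one]
    · rw [eq_bot_iff]
      rintro x ⟨hx, hxe⟩
      obtain ⟨g, hg, rfl⟩ := mem_qimg.1 hx
      have h1 : qmk D ⁅(⟨e, heD⟩ : QN D), g⁆ = 1 := by
        rw [map_commutatorElement, commutatorElement_eq_one_iff_mul_comm]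
        exact mem_centralizer_one.1 hxe
      rw [qmk_eq_one] at h1
      have h2 : e * (g : X) * e⁻¹ * (g : X)⁻¹ ∈ Z ⊓ D :=
        Subgroup.mem_inf.2 ⟨mul_mem (conj_mem_of_mem_normalizer heZ hg) (inv_mem hg), h1⟩
      rw [(disjoint_of_coprime_natCard (hcop.coprime_dvd_right (card_dvd_of_le hDS))).eq_bot, mem_bot,
        mul_inv_eq_one, mul_inv_eq_iff_eq_mul] at h2
      have h3 : (g : X) ∈ Z ⊓ centralizer ({e} : Set X) := ⟨hg, mem_centralizer_one.2 h2⟩
      rw [hZe, mem_bot] at h3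
      rw [mem_bot, show g = 1 from Subtype.ext h3, map_one]
    · intro x hx hxe w hw
      obtain ⟨k, hk, rfl⟩ := mem_qimg.1 hx
      obtain ⟨g, hg, rfl⟩ := mem_qimg.1 hw
      obtain ⟨c, hc, hkc⟩ := exists_mem_centralizer (A := zpowers e) (K := S) (zpowers_le.2 heS)
        (by
          rw [Nat.card_zpowers]
          exact (((hq.coprime_iff_not_dvd).2 hqr).coprime_dvd_left (orderOf_dvd_of_pow_eq_one he)))
        (Or.inl (Group.isSolvable_of_comm fun a b => mul_comm' a b)) hDS hSD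
        (zpowers_le.2 heD) hk (fun a ha => by
          obtain ⟨i, rfl⟩ := mem_zpowers_iff.1 ha
          refine qmk_eq_one (g := (⟨e, heD⟩ : QN D) ^ i * k * ((⟨e, heD⟩ : QN D) ^ i)⁻¹ * k⁻¹) |>.1 ?_
          rw [map_mul, map_mul, map_mul, map_inv, map_inv, map_zpow,
            (Commute.zpow_left hxe i).eq, mul_inv_cancel_right, mul_inv_cancel])
      have hck : qmk D k = qmk D ⟨c, hSD hc.1⟩ := QuotientGroup.eq.2 hkc
      rw [hck, ← map_mul, ← map_mul]
      exact congrArg _ (Subtype.ext (hfix c hc.1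
        (mem_centralizer_iff.1 hc.2 e (mem_zpowers e)) g hg))
  have h5 : qmk D ⁅(⟨z, hZD hz⟩ : QN D), (⟨s, hSD hs⟩ : QN D)⁆ = 1 := by
    rw [map_commutatorElement, commutatorElement_eq_one_iff_mul_comm]
    exact (mem_centralizer_iff.1 (hZi (mk_mem_qimg _ hz)) _ (mk_mem_qimg _ hs)).symm
  exact qmk_eq_one.1 h5

end Cfsg.Agent.AbelianFixed
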