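import Cfsg.Agent.Lib.AbelianFixed.Pair
import Cfsg.Agent.Lib.Transfer.Abelian
import Cfsg.Agent.Lib.PLocal.ZJNPC

/-!
A minimal counterexample: proper invariant subgroups are soluble and there is no invariant normal
subgroup. Sylow subgroups with two trivial parts.
-/

set_option autoImplicit false

namespace Cfsg.Agent.AbelianFixed

open Subgroup
open scoped commutatorElement Pointwise
open Cfsg.Agent.CoprimeAct Cfsg.Agent.SolvBasic

universe u

variable {X : Type u} [Group X] [Finite X] {q : ℕ} {A G : Subgroup X}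

theorem norm_iSup {B : Subgroup X} {ι : Sort*} {S : ι → Subgroup X}
    (h : ∀ i, B ≤ normalizer (S i : Set X)) :
    B ≤ normalizer ((⨆ i, S i : Subgroup X) : Set X) := fun b hb => by
  rw [mem_normalizer_iff_map_conj_eq, Subgroup.map_iSup]
  exact iSup_congr fun i => mem_normalizer_iff_map_conj_eq.1 (h i hb)

theorem mem_normalizer_of_forall {U : Subgroup X} {g : X} (h : ∀ y ∈ U, g * y * g⁻¹ ∈ U) :
    g ∈ normalizer (U : Set X) := by
  rw [mem_normalizer_iff_conjSmul]
  refine Subgroup.eq_of_le_of_card_ge (fun y hy => ?_) (card_conjSmul g U).ge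
  rw [mem_conjSmul] at hy
  simpa [mul_assoc] using h _ hy

/-- Two independent elements of `A` with a common property. -/
def Two (A : Subgroup X) (f : X → Prop) : Prop :=
  ∃ a ∈ A, ∃ c ∈ A, a ≠ 1 ∧ c ≠ 1 ∧ c ∉ zpowers a ∧ f a ∧ f c

theorem Two.imp {f g : X → Prop} (h : Two A f) (hfg : ∀ a, f a → g a) : Two A g := by
  obtain ⟨a, ha, c, hc, ha1, hc1, hca, hfa, hfc⟩ := h
  exact ⟨a, ha, c, hc, ha1, hc1, hca, hfg a hfa, hfg c hfc⟩

theorem Two.avoid {f : X → Prop} (h : Two A f) (hS : Setup q A G) (b : X) (hb : b ∈ A) :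
    ∃ e ∈ A, e ∉ zpowers b ∧ f e := by
  obtain ⟨a, ha, c, hc, ha1, -, hca, hfa, hfc⟩ := h
  by_cases hab : a ∈ zpowers b
  · refine ⟨c, hc, fun hcb => hca ?_, hfc⟩
    exact zpowers_le.2 (hS.mem_zpowers_symm hb ha1 hab) hcb
  · exact ⟨a, ha, hab, hfa⟩

namespace Fpf

variable (h : Fpf q A G)
include h

variable {p : ℕ} [Fact p.Prime]

/-- Elements normalizing a `p`-group with two trivial parts centralize it. -/
theorem centralizes_of_two {P K : Subgroup X} (hP : P ≤ G) (hPp : IsPGroup p P)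
    (hPA : A ≤ normalizer (P : Set X)) (htwo : Two A fun e => P ⊓ centralizer ({e} : Set X) = ⊥)
    (hK : K ≤ G) (hKA : A ≤ normalizer (K : Set X)) (hKP : K ≤ normalizer (P : Set X))
    (hcop : (Nat.card K).Coprime (Nat.card P)) : K ≤ centralizer (P : Set X) := by
  refine h.toSetup.le_of_parts hK hKA fun b hb hb1 => ?_
  obtain ⟨e, he, heb, hPe⟩ := htwo.avoid h.toSetup b hb
  refine key (r := p) (q := q) (e := e) h.hq (h.exp_A e he) hPp (hPA he)
    (norm_inf hKA (h.toSetup.norm_centralizer_elt hb) he)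
    (fun hd => h.cop (hd.trans (card_dvd_of_le hP))) (inf_le_left.trans hKP)
    (hcop.coprime_dvd_left (card_dvd_of_le inf_le_left))
    (h.part_inf hb hb1 he heb (inf_le_left.trans hK) inf_le_right) fun s hs hes z _ => ?_
  have h1 : s ∈ P ⊓ centralizer ({e} : Set X) := ⟨hs, mem_centralizer_one.2 hes⟩
  rw [hPe, mem_bot] at h1
  rw [h1, mul_one, one_mul]

/-- Two trivial parts give a normal complement in soluble invariant overgroups. -/
theorem exists_complement {L : Subgroup X} (hL : L ≤ G) (hLA : A ≤ normalizer (L : Set X))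
    (hsol : Group.IsSolvable L) (hPL : syl A G p ≤ L)
    (htwo : Two A fun e => syl A G p ⊓ centralizer ({e} : Set X) = ⊥) :
    ∃ H : Subgroup X, H ≤ L ∧ L ≤ normalizer (H : Set X) ∧ (Nat.card H).Coprime p ∧
      H ⊔ syl A G p = L := by
  have hp : p.Prime := Fact.out
  set P := syl A G p with hP
  have hLf := h.mono hL hLA
  have hPLs : syl A L p = P := by rw [← h.syl_inf hL hLA, inf_eq_right.2 hPL]
  obtain ⟨⟨H, hHL, hHc, hHA⟩, -⟩ := InvariantHall.exists_and_conj hLA (h.cop_of_le hL) hsol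
    (m := Nat.card L / p ^ (Nat.card L).factorization p) (n := p ^ (Nat.card L).factorization p)
    (by rw [mul_comm]; exact (Nat.ordProj_mul_ordCompl_eq_self _ _).symm)
    ((Nat.coprime_ordCompl hp Nat.card_pos.ne').symm.pow_right _)
  have hHp : (Nat.card H).Coprime p := by
    rw [hHc]; exact (Nat.coprime_ordCompl hp Nat.card_pos.ne').symm
  -- `P` normalizes the Sylow subgroups
  have hnorm : ∀ s : ℕ, s.Prime → s ≠ p → P ≤ normalizer (syl A L s : Set X) := by
    intro s hs hsp
    haveI := Fact.mk hs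
    obtain ⟨L₂, hL₂L, hL₂A, hPR, hLp, hLs⟩ := h.hall_pair hsp.symm hL hLA hsol
    have hL₂f := hLf.mono hL₂L hL₂A
    rw [hPLs] at hLp
    have hPL₂ : P ≤ L₂ := hLp ▸ hL₂f.syl_le
    set K := syl A L₂ s ⊓ normalizer (P : Set X) with hK
    have hKC : K ≤ centralizer (P : Set X) :=
      h.centralizes_of_two h.syl_le h.syl_pGroup h.syl_norm htwo
        (inf_le_left.trans (hL₂f.syl_le.trans (hL₂L.trans hL)))
        (norm_inf hL₂f.syl_norm (norm_normalizer h.syl_norm)) inf_le_right
        (pr_coprime hsp (hL₂f.syl_pGroup.to_le inf_le_left) h.syl_pGroup)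
    intro u hu
    refine mem_normalizer_of_forall fun y hy => ?_
    rw [← hLs] at hy ⊢
    obtain ⟨c, hc, k, hk, rfl⟩ := hL₂f.pr_struct hsp.symm hPR hy
    rw [hLp] at hk
    have h1 : u * (c * k) * u⁻¹ = (u * c * u⁻¹) * k := by
      rw [show u * (c * k) * u⁻¹ = (u * c * u⁻¹) * (u * k * u⁻¹) by group,
        conj_eq_of_commute (mem_centralizer_iff.1 (hKC hk) u hu)]
    rw [h1]
    exact mul_mem (hL₂f.le_syl (core_le s L₂) (norm_core hL₂A) (core_isPGroup s L₂)
      (conj_mem_of_mem_normalizer (le_normalizer_core s L₂ (hPL₂ hu)) hc)) hk.1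
  -- the complement is generated by them
  have hsylH : ∀ s : ℕ, s.Prime → s ≠ p → syl A L s ≤ H := by
    intro s hs hsp
    haveI := Fact.mk hs
    have hHf := hLf.mono hHL hHA
    suffices heq : syl A H s = syl A L s from heq ▸ hHf.syl_le
    refine Subgroup.eq_of_le_of_card_ge (hLf.syl_mono hHL hHA) ?_
    rw [hLf.syl_card, hHf.syl_card, hHc, Nat.factorization_ordCompl, Finsupp.erase_ne hsp]
  set J := ⨆ s : {s : ℕ // s.Prime ∧ s ≠ p}, syl A L s with hJ
  have hJH : J = H := by
    have hle : J ≤ H := iSup_le fun s => hsylH s.1 s.2.1 s.2.2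
    refine Subgroup.eq_of_le_of_card_ge hle (Nat.le_of_dvd Nat.card_pos ?_)
    rw [← Nat.factorization_le_iff_dvd Nat.card_pos.ne' Nat.card_pos.ne', Finsupp.le_def]
    intro s
    by_cases hs : s.Prime
    · by_cases hsp : s = p
      · subst hsp
        rw [Nat.factorization_eq_zero_of_not_dvd]
        · exact Nat.zero_le _
        · exact fun hd => hp.not_dvd_one (hHp ▸ Nat.dvd_gcd hd dvd_rfl)
      haveI := Fact.mk hs
      rw [← hs.pow_dvd_iff_le_factorization Nat.card_pos.ne',
        hHc, Nat.factorization_ordCompl, Finsupp.erase_ne hsp, ← hLf.syl_card]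
      exact card_dvd_of_le (le_iSup (fun s : {s : ℕ // s.Prime ∧ s ≠ p} => syl A L s) ⟨s, hs, hsp⟩)
    · rw [Nat.factorization_eq_zero_of_not_prime _ hs]
      exact Nat.zero_le _
  have hPH : P ≤ normalizer (H : Set X) := hJH ▸ norm_iSup fun s => hnorm s.1 s.2.1 s.2.2
  have hsup : H ⊔ P = L := by
    refine Subgroup.eq_of_le_of_card_ge (sup_le hHL hPL) ?_
    have hbot : H ⊓ P = ⊥ := by
      refine (disjoint_of_coprime_natCard ?_).eq_bot
      rw [← hPLs, hLf.syl_card]
      exact hHp.pow_right _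
    rw [card_sup_of_inf_eq_bot hPH hbot, ← hPLs, hLf.syl_card, hHc, mul_comm,
      Nat.ordProj_mul_ordCompl_eq_self]
  refine ⟨H, hHL, ?_, hHp, hsup⟩
  conv_lhs => rw [← hsup]
  exact sup_le le_normalizer hPH

end Fpf

/-- A minimal counterexample. -/
structure Min (q : ℕ) (A G : Subgroup X) : Prop extends Fpf q A G where
  sol : ∀ U ≤ G, A ≤ normalizer (U : Set X) → U ≠ G → Group.IsSolvable U
  simple : ∀ U ≤ G, A ≤ normalizer (U : Set X) → G ≤ normalizer (U : Set X) → U = ⊥ ∨ U = G
  nsol : ¬ Group.IsSolvable G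

namespace Min

variable (h : Min q A G)
include h

theorem ne_of_pGroup {p : ℕ} [Fact p.Prime] {U : Subgroup X} (hp : IsPGroup p U) : U ≠ G := by
  rintro rfl
  haveI := hp.isNilpotent
  exact h.nsol inferInstance

theorem inf_normalizer_ne {p : ℕ} [Fact p.Prime] {U : Subgroup X} (hU : U ≤ G)
    (hA : A ≤ normalizer (U : Set X)) (hp : IsPGroup p U) (hne : U ≠ ⊥) :
    G ⊓ normalizer (U : Set X) ≠ G := fun he =>
  (h.simple U hU hA (inf_eq_left.1 he)).elim hne (h.ne_of_pGroup hp)

theorem norm_inf_normalizer {U : Subgroup X} (hA : A ≤ normalizer (U : Set X)) :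
    A ≤ normalizer ((G ⊓ normalizer (U : Set X) : Subgroup X) : Set X) :=
  norm_inf h.norm (norm_normalizer hA)

theorem not_npc {p : ℕ} [Fact p.Prime] (hne : syl A G p ≠ ⊥) :
    ¬ Cfsg.HasNormalPComplement p G := by
  intro hnpc
  have hk := (PBasic.quotient_pPrimeCore_isPGroup hnpc)
  set N := (Cfsg.pPrimeCore p G).map G.subtype with hN
  have hNG : N ≤ G := map_subtype_le _
  have hnorm : normalizer (G : Set X) ≤ normalizer (N : Set X) :=
    normalizer_le_char (hK := PBasic.pPrimeCore_characteristic p G) _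
  rcases h.simple N hNG (h.norm.trans hnorm) (le_normalizer.trans hnorm) with h1 | h1
  · rw [hN, map_eq_bot_iff_of_injective _ G.subtype_injective] at h1
    refine h.ne_of_pGroup (p := p) ?_ rfl
    refine hk.of_equiv ((QuotientGroup.quotientMulEquivOfEq h1).trans QuotientGroup.quotientBot)
  · have hc : (Nat.card G).Coprime p := by
      have hc := PBasic.pPrimeCore_coprime p G
      rwa [← Subgroup.card_map_of_injective G.subtype_injective, ← hN, h1] at hc
    refine hne (Subgroup.eq_bot_of_card_eq _ ?_)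
    rw [h.syl_card, Nat.factorization_eq_zero_of_not_dvd, pow_zero]
    exact fun hd => (Fact.out : p.Prime).not_dvd_one (hc ▸ Nat.dvd_gcd hd dvd_rfl)

/-- No Sylow subgroup has two trivial parts, unless it is a non-abelian `2`-group. -/
theorem two_trivial_false {p : ℕ} [Fact p.Prime] (hne : syl A G p ≠ ⊥)
    (htwo : Two A fun e => syl A G p ⊓ centralizer ({e} : Set X) = ⊥)
    (hp : p ≠ 2 ∨ ∀ x ∈ syl A G p, ∀ y ∈ syl A G p, x * y = y * x) : False := by
  set P := syl A G p with hP
  obtain ⟨P', hP'⟩ := exists_sylow_of_card h.syl_le (h.syl_card (p := p))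
  rw [← hP] at hP'
  by_cases hab : ∀ x ∈ P, ∀ y ∈ P, x * y = y * x
  · have hL : G ⊓ normalizer (P : Set X) ≠ G :=
      h.inf_normalizer_ne h.syl_le h.syl_norm h.syl_pGroup hne
    obtain ⟨H, hHL, hLH, hHp, hsup⟩ := h.exists_complement inf_le_left
      (h.norm_inf_normalizer h.syl_norm) (h.sol _ inf_le_left (h.norm_inf_normalizer h.syl_norm) hL)
      (le_inf h.syl_le le_normalizer) htwo
    refine h.not_npc hne (AbelianSylow.hasNormalPComplement_of_abelian P'
      ⟨⟨fun a b => Subtype.ext (Subtype.ext (hab _ (hP' ▸ mem_map_of_mem _ a.2) _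
        (hP' ▸ mem_map_of_mem _ b.2)))⟩⟩ fun g hg _ => ?_)
    have hgN : (g : X) ∈ normalizer (P : Set X) := by
      rw [← hP']
      exact le_normalizer_map G.subtype ⟨g, hg, rfl⟩
    have hgL : (g : X) ∈ H ⊔ P := hsup.ge ⟨g.2, hgN⟩
    have hPH : P ≤ normalizer (H : Set X) := (le_inf h.syl_le le_normalizer).trans hLH
    obtain ⟨x, hx, u, hu, hxu⟩ := (mem_sup_iff_of_le_normalizer hPH).1 hgL
    have hbot : H ⊓ P = ⊥ := by
      refine (disjoint_of_coprime_natCard ?_).eq_bot
      rw [h.syl_card]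
      exact hHp.pow_right _
    rw [mem_centralizer_iff]
    intro y hy
    have hy' : (y : X) ∈ P := hP' ▸ mem_map_of_mem _ hy
    have hxy : x * y = y * x := by
      have h1 : x * y * x⁻¹ * (y : X)⁻¹ ∈ H ⊓ P := by
        refine Subgroup.mem_inf.2 ⟨?_, mul_mem (conj_mem_of_mem_normalizer (hHL hx).2 hy') (inv_mem hy')⟩
        rw [show x * y * x⁻¹ * (y : X)⁻¹ = x * ((y : X) * x⁻¹ * (y : X)⁻¹) by group]
        exact mul_mem hx (conj_mem_of_mem_normalizer (hPH hy') (inv_mem hx))
      rwa [hbot, mem_bot, mul_inv_eq_one, mul_inv_eq_iff_eq_mul] at h1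
    refine Subtype.ext ?_
    show (y : X) * (g : X) = (g : X) * y
    rw [hxu, mul_assoc, hab u hu y hy', ← mul_assoc, ← mul_assoc, hxy]
  · have hp2 : p ≠ 2 := hp.resolve_right hab
    set W := ZJ.zJ p False P with hW
    have hWP : W ≤ P := ZJ.zJ_le P
    have hWne : W ≠ ⊥ := fun he => ZJ.zCore_ne_bot (e := False) h.syl_pGroup hne
      (le_bot_iff.1 (he ▸ ZJ.zCore_le_zJ P))
    have hWA : A ≤ normalizer (W : Set X) := h.syl_norm.trans (ZJ.normalizer_le_normalizer_zJ P)
    have hL : G ⊓ normalizer (W : Set X) ≠ G :=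
      h.inf_normalizer_ne (hWP.trans h.syl_le) hWA (h.syl_pGroup.to_le hWP) hWne
    obtain ⟨H, hHL, hLH, hHp, hsup⟩ := h.exists_complement inf_le_left
      (h.norm_inf_normalizer hWA) (h.sol _ inf_le_left (h.norm_inf_normalizer hWA) hL)
      (le_inf h.syl_le (ZJ.le_normalizer_zJ P)) htwo
    set L := G ⊓ normalizer (W : Set X) with hLdef
    haveI : (H.subgroupOf L).Normal := normal_subgroupOf_of_le_normalizer hLH
    have hcH : (Nat.card (H.subgroupOf L)).Coprime p := by
      rwa [Nat.card_congr (subgroupOfEquivOfLe hHL).toEquiv]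
    have hnpcL : Cfsg.HasNormalPComplement p L := by
      refine PBasic.hasNormalPComplement_iff.2 ⟨_, inferInstance, hcH, ?_⟩
      have hbot : H ⊓ P = ⊥ := by
        refine (disjoint_of_coprime_natCard ?_).eq_bot
        rw [h.syl_card]
        exact hHp.pow_right _
      have hcard : Nat.card L = Nat.card H * Nat.card P := by
        rw [← hsup]
        exact card_sup_of_inf_eq_bot ((le_inf h.syl_le (ZJ.le_normalizer_zJ P)).trans hLH) hbot
      refine ⟨(Nat.card G).factorization p, ?_⟩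
      rw [← h.syl_card]
      have hmul := (H.subgroupOf L).card_mul_index
      rw [Nat.card_congr (subgroupOfEquivOfLe hHL).toEquiv, hcard] at hmul
      exact Nat.eq_of_mul_eq_mul_left Nat.card_pos hmul
    refine h.not_npc hne (ZJNPC.hasNormalPComplement_of_zJ hp2 False P' ?_)
    have hmem : ∀ g : normalizer (ZJ.zJ p False (P' : Subgroup G) : Set G), ((g : G) : X) ∈ L := by
      intro g
      refine Subgroup.mem_inf.2 ⟨(g : G).2, ?_⟩
      rw [hW, ← hP', ← ZJ.zJ_map G.subtype G.subtype_injective.injOn]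
      exact le_normalizer_map G.subtype ⟨g, g.2, rfl⟩
    refine PBasic.hasNormalPComplement_of_injective
      ((G.subtype.comp (Subgroup.subtype _)).codRestrict L hmem) (fun a b hab' => ?_) hnpcL
    exact Subtype.ext (Subtype.ext (congrArg (fun t : L => (t : X)) hab'))

end Min

end Cfsg.Agent.AbelianFixed
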