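import Cfsg.Agent.Lib.AbelianFixed.Permute

/-!
A group of order prime to `q` on which an elementary abelian group of order `q ^ 2` acts with
abelian fixed point groups of nontrivial elements is soluble.
-/

set_option autoImplicit false

namespace Cfsg.Agent.AbelianFixed

open Subgroup
open scoped commutatorElement Pointwise
open Cfsg.Agent.CoprimeAct Cfsg.Agent.SolvBasic

universe u

variable {X : Type u} [Group X] [Finite X] {q : ℕ} {A G : Subgroup X}

theorem Min.absurd (h : Min q A G) : False := by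
  have hex : ∀ p : Nat.Primes, ∃ P : Sylow (p : ℕ) G, (P : Subgroup G).map G.subtype = syl A G p :=
    fun p => by
      haveI := Fact.mk p.2
      exact exists_sylow_of_card h.syl_le h.syl_card
  choose S hS using hex
  refine h.nsol (SolvCriteria.solvable_of_sylowSystem S fun p r => ?_)
  by_cases hpr : p = r
  · rw [hpr]
  haveI := Fact.mk p.2
  haveI := Fact.mk r.2
  have hpr' : (p : ℕ) ≠ r := fun e => hpr (Subtype.ext e)
  have hmem : ∀ (s : Nat.Primes) (x : G), x ∈ S s ↔ (x : X) ∈ syl A G s := fun s x => by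
    rw [← hS s]
    exact (mem_map_iff_mem G.subtype_injective).symm
  have hM := h.mid_pr hpr'
  have hMf := h.mono h.mid_le (h.mid_norm (p := (p : ℕ)) (r := (r : ℕ)))
  have hRM : syl A G r ≤ Mid A G p r := (h.rs_eq hpr').ge.trans h.rs_le_mid
  have hsp : syl A (Mid A G p r) p = syl A G p := h.syl_mid
  have hsr : syl A (Mid A G p r) r = syl A G r := (h.syl_mid' hpr').trans (h.rs_eq hpr')
  ext x
  constructor
  · rintro ⟨u, hu, v, hv, rfl⟩
    obtain ⟨v', hv', u', hu', e⟩ := hMf.exists_mul hpr'.symm hM.symm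
      (mul_mem (h.syl_le_mid ((hmem p u).1 hu)) (hRM ((hmem r v).1 hv)))
    rw [hsr] at hv'
    rw [hsp] at hu'
    exact ⟨⟨v', h.syl_le hv'⟩, (hmem r _).2 hv', ⟨u', h.syl_le hu'⟩, (hmem p _).2 hu',
      Subtype.ext e.symm⟩
  · rintro ⟨v, hv, u, hu, rfl⟩
    obtain ⟨u', hu', v', hv', e⟩ := hMf.exists_mul hpr' hM
      (mul_mem (hRM ((hmem r v).1 hv)) (h.syl_le_mid ((hmem p u).1 hu)))
    rw [hsr] at hv'
    rw [hsp] at hu'
    exact ⟨⟨u', h.syl_le hu'⟩, (hmem p _).2 hu', ⟨v', h.syl_le hv'⟩, (hmem r _).2 hv',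
      Subtype.ext e.symm⟩

theorem solvable_extension {D U : Subgroup X} (hDU : D ≤ U) (hUD : U ≤ QN D)
    (hD : Group.IsSolvable D) (hq : Group.IsSolvable (qimg D U)) : Group.IsSolvable U := by
  have := hD
  have := hq
  let f : U →* qimg D U :=
    ((qmk D).comp (inclusion hUD)).codRestrict _ fun g => mk_mem_qimg _ g.2
  refine solvable_of_ker_le_range (inclusion hDU) f fun g hg => ?_
  have h1 : qmk D (inclusion hUD g) = 1 := congrArg Subtype.val hg
  rw [qmk_eq_one] at h1
  exact ⟨⟨g, h1⟩, rfl⟩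

theorem card_qimg_lt {D U : Subgroup X} (hDU : D ≤ U) (hUD : U ≤ QN D) (hne : D ≠ ⊥) :
    Nat.card (qimg D U) < Nat.card U := by
  rw [← qimg_card_mul hDU hUD]
  exact lt_mul_of_one_lt_left Nat.card_pos (one_lt_card_iff_ne_bot D |>.2 hne)

theorem solvable (h : Setup q A G) : Group.IsSolvable G := by
  suffices H : ∀ n : ℕ, ∀ (X : Type u) [Group X] [Finite X] (A G : Subgroup X),
      Setup q A G → Nat.card G = n → Group.IsSolvable G from H _ X A G h rfl
  intro n
  induction n using Nat.strong_induction_on with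
  | _ n ih =>
  intro X _ _ A G h hn
  by_contra hns
  have hstep : ∀ D : Subgroup X, D ≤ G → A ≤ normalizer (D : Set X) →
      G ≤ normalizer (D : Set X) → D ≠ ⊥ → Group.IsSolvable D → False := fun D hDG hAD hGD hne hD =>
    hns (solvable_extension hDG hGD hD
      (ih _ (hn ▸ card_qimg_lt hDG hGD hne) _ _ _ (h.qimg hDG hAD hGD) rfl))
  by_cases hfix : G ⊓ centralizer (A : Set X) = ⊥
  · have hsol : ∀ U ≤ G, A ≤ normalizer (U : Set X) → U ≠ G → Group.IsSolvable U := by
      intro U hU hA hne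
      refine ih _ ?_ _ _ _ (h.mono hU hA) rfl
      rw [← hn]
      by_contra hcon
      exact hne (Subgroup.eq_of_le_of_card_ge hU (not_lt.1 hcon))
    refine (Min.absurd (q := q) (A := A) (G := G) ⟨⟨h, hfix⟩, hsol, fun U hU hA hG => ?_, hns⟩)
    by_cases hne : U = ⊥
    · exact Or.inl hne
    by_cases hUG : U = G
    · exact Or.inr hUG
    exact (hstep U hU hA hG hne (hsol U hU hA hUG)).elim
  · refine hstep _ inf_le_left (norm_inf h.norm (AbelianFixed.norm_centralizer fun a ha =>
      le_normalizer ha)) (fun g hg => mem_normalizer_of_forall fun y hy => ?_) hfix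
      (Group.isSolvable_of_comm fun x y => Subtype.ext ?_)
    · rw [conj_eq_of_commute (mem_centralizer_one.1 (h.fix_central hy.1 hy.2 hg)).symm]
      exact hy
    · exact mem_centralizer_one.1 (h.fix_central x.2.1 x.2.2 y.2.1)

end Cfsg.Agent.AbelianFixed
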