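import Cfsg.Agent.Lib.AbelianFixed.Struct

/-!
In an invariant `{p, r}`-subgroup the Sylow `p`-subgroup times the `r`-core is normal.
-/

set_option autoImplicit false

namespace Cfsg.Agent.AbelianFixed

open Subgroup
open scoped commutatorElement Pointwise
open Cfsg.Agent.CoprimeAct Cfsg.Agent.SolvBasic

universe u

variable {X : Type u} [Group X] [Finite X] {q : ℕ} {A H : Subgroup X}

theorem centralizer_core_le {p r : ℕ} [Fact p.Prime] [Fact r.Prime]
    {H : Subgroup X} (hsol : Group.IsSolvable H) (hH : PR p r H) (h0 : core r H = ⊥) :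
    H ⊓ centralizer (core p H : Set X) ≤ core p H := by
  have hcop : Cfsg.pPrimeCore p H = ⊥ := by
    refine eq_bot_iff.2 (le_trans ?_ (le_of_eq (Subgroup.map_eq_bot_iff_of_injective _
      H.subtype_injective |>.1 h0)))
    refine FittingCores.le_pCore (FittingCores.pPrimeCore_normal p) ?_
    set N := Cfsg.pPrimeCore p H
    refine IsPGroup.of_card (n := (Nat.card N).factorization r) ?_
    refine (Nat.eq_pow_of_factorization_eq_single ?_ ?_)
    · exact Nat.card_pos.ne'
    ext s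
    rw [Finsupp.single_apply]
    split_ifs with hsr
    · rw [hsr]
    rw [Nat.factorization_eq_zero_iff]
    by_contra hcon
    push Not at hcon
    rcases hH s hcon.1 (hcon.2.1.trans (Subgroup.card_subgroup_dvd_card N)) with rfl | rfl
    · exact (Fact.out : s.Prime).not_dvd_one
        ((FittingCores.pPrimeCore_coprime (G := H) s) ▸ Nat.dvd_gcd hcon.2.1 (dvd_refl s))
    · exact hsr rfl
  have := hsol
  intro x hx
  have h1 := FittingCores.centralizer_pCore_le (G := H) Fact.out hcop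
  refine ⟨⟨x, hx.1⟩, h1 (mem_centralizer_iff.2 fun y hy => Subtype.ext ?_), rfl⟩
  exact mem_centralizer_iff.1 hx.2 _ ⟨y, hy, rfl⟩

theorem sylow_conj {p : ℕ} [Fact p.Prime] {N U U' : Subgroup X} (hU : U ≤ N) (hU' : U' ≤ N)
    (hc : Nat.card U = p ^ (Nat.card N).factorization p)
    (hc' : Nat.card U' = p ^ (Nat.card N).factorization p) :
    ∃ g ∈ N, U' = MulAut.conj g • U := by
  obtain ⟨P, hP⟩ := exists_sylow_of_card hU hc
  obtain ⟨P', hP'⟩ := exists_sylow_of_card hU' hc'
  obtain ⟨g, hg⟩ := MulAction.exists_smul_eq N P P'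
  refine ⟨g, g.2, ?_⟩
  rw [← hP', ← hg, ← hP]
  exact map_subtype_conjSmul g _

theorem qimg_core_eq_bot {r : ℕ} [Fact r.Prime] :
    core r (qimg (core r H) H) = ⊥ := by
  set S := core r H
  set M := ((core r (qimg S H)).comap (qmk S)).map (QN S).subtype with hM
  have hMH : M ≤ H := by
    rintro _ ⟨g, hg, rfl⟩
    exact mem_of_qmk_mem (core_le r H) (core_le r (qimg S H) hg)
  have hMn : H ≤ normalizer (M : Set X) := by
    intro x hx
    have hxN : x ∈ QN S := le_normalizer_core r H hx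
    refine Subgroup.le_normalizer_map (QN S).subtype ⟨⟨x, hxN⟩, ?_, rfl⟩
    rw [SetLike.mem_coe, mem_normalizer_iff]
    intro z
    rw [mem_comap, mem_comap, map_mul, map_mul, map_inv]
    exact mem_normalizer_iff.1 (le_normalizer_core r _ (mk_mem_qimg _ hx)) _
  have hMp : IsPGroup r M := by
    refine (IsPGroup.comap_of_ker_isPGroup (core_isPGroup r _) (qmk S) ?_).map _
    rw [QuotientGroup.ker_mk']
    exact (core_isPGroup r H).comap_subtype
  have hle := le_core hMH hMn hMp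
  rw [eq_bot_iff]
  intro y hy
  obtain ⟨g, -, rfl⟩ := mem_qimg.1 (core_le r _ hy)
  rw [mem_bot, qmk_eq_one]
  exact hle ⟨g, hy, rfl⟩

namespace Fpf

variable (h : Fpf q A H)
include h

variable {p r : ℕ} [Fact p.Prime] [Fact r.Prime]

theorem syl_qimg {D : Subgroup X} (hD : D ≤ H) (hAD : A ≤ normalizer (D : Set X))
    (hHD : H ≤ normalizer (D : Set X)) :
    (AbelianFixed.qimg D (syl A H p)) = syl (AbelianFixed.qimg D A) (AbelianFixed.qimg D H) p := by
  have h' := h.qimg hD hAD hHD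
  refine Subgroup.eq_of_le_of_card_ge
    (h'.le_syl (qimg_mono h.syl_le) (qimg_normalizer h.syl_norm) (isPGroup_qimg h.syl_pGroup)) ?_
  rw [h'.syl_card]
  have hker : Nat.card (AbelianFixed.qimg D (syl A H p)) *
      Nat.card (syl A H p ⊓ D : Subgroup X) = Nat.card (syl A H p) := by
    have hsub : syl A H p ≤ QN D := h.syl_le.trans hHD
    rw [AbelianFixed.qimg, ← Subgroup.relIndex_ker (f := qmk D), QuotientGroup.ker_mk',
      ← Nat.card_congr (subgroupOfEquivOfLe hsub).toEquiv,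
      ← Nat.card_congr (subgroupOfEquivOfLe (inf_le_left.trans hsub : syl A H p ⊓ D ≤ QN D)).toEquiv,
      ← Subgroup.inf_relIndex_right, mul_comm, ← Subgroup.relIndex_bot_left,
      ← Subgroup.relIndex_bot_left (H := (syl A H p).subgroupOf (QN D))]
    have heq : D.subgroupOf (QN D) ⊓ (syl A H p).subgroupOf (QN D) =
        (syl A H p ⊓ D).subgroupOf (QN D) := by
      ext z; simp [mem_subgroupOf, and_comm]
    rw [heq]
    exact Subgroup.relIndex_mul_relIndex _ _ _ bot_le (comap_mono inf_le_left)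
  have hD' : Nat.card (syl A H p ⊓ D : Subgroup X) ∣ Nat.card D := card_dvd_of_le inf_le_right
  obtain ⟨i, hi⟩ := IsPGroup.iff_card.1 (h.syl_pGroup.to_le (inf_le_left : syl A H p ⊓ D ≤ syl A H p))
  obtain ⟨j, hj⟩ := IsPGroup.iff_card.1 (isPGroup_qimg (D := D) (h.syl_pGroup (p := p)))
  rw [hj, hi, h.syl_card, ← pow_add] at hker
  have hij := Nat.pow_right_injective (Fact.out : p.Prime).two_le hker
  have hcm := qimg_card_mul hD hHD
  have hfac : (Nat.card D).factorization p + (Nat.card (AbelianFixed.qimg D H)).factorization p =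
      (Nat.card H).factorization p := by
    rw [← hcm, Nat.factorization_mul Nat.card_pos.ne' Nat.card_pos.ne', Finsupp.add_apply]
  have hile : i ≤ (Nat.card D).factorization p :=
    ((Fact.out : p.Prime).pow_dvd_iff_le_factorization Nat.card_pos.ne').1 (hi ▸ hD')
  rw [hj]
  exact Nat.pow_le_pow_right (Fact.out : p.Prime).one_le (by omega)

/-- If the `r`-core is trivial, the Sylow `p`-subgroup is normal. -/
theorem le_normalizer_syl (hpr : p ≠ r) (hH : PR p r H) (h0 : core r H = ⊥) :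
    H ≤ normalizer (syl A H p : Set X) := by
  set F := core p H with hF
  have hFH : F ≤ H := core_le p H
  have hFA : A ≤ normalizer (F : Set X) := norm_core h.norm
  have hHF : H ≤ normalizer (F : Set X) := le_normalizer_core p H
  have hFP : F ≤ syl A H p := h.le_syl hFH hFA (core_isPGroup p H)
  have hCF : H ⊓ centralizer (F : Set X) ≤ F :=
    centralizer_core_le (h.solvable_pr hpr hH) hH h0
  have h' := h.qimg hFH hFA hHF
  have hH' : PR p r (AbelianFixed.qimg F H) := fun s hs hd => hH s hs (hd.trans (card_qimg_dvd hHF))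
  -- the `r`-core of the quotient
  set K' := core r (AbelianFixed.qimg F H) with hK'
  set R₀ := syl A H r ⊓ ((K'.comap (qmk F)).map (QN F).subtype) with hR₀
  have hR₀R : R₀ ≤ syl A H r := inf_le_left
  have hR₀H : R₀ ≤ H := hR₀R.trans h.syl_le
  have hR₀A : A ≤ normalizer (R₀ : Set X) := by
    refine norm_inf h.syl_norm ?_
    intro a ha
    refine Subgroup.le_normalizer_map (QN F).subtype ⟨⟨a, hFA ha⟩, ?_, rfl⟩
    rw [SetLike.mem_coe, mem_normalizer_iff]
    intro z
    rw [mem_comap, mem_comap, map_mul, map_mul, map_inv]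
    exact mem_normalizer_iff.1 (norm_core h'.norm (mk_mem_qimg _ ha)) _
  have hR₀r : IsPGroup r R₀ := h.syl_pGroup.to_le hR₀R
  have hK'syl : K' ≤ syl (AbelianFixed.qimg F A) (AbelianFixed.qimg F H) r :=
    h'.le_syl (core_le r _) (norm_core h'.norm) (core_isPGroup r _)
  have himg : ∀ y ∈ K', ∃ g : QN F, (g : X) ∈ R₀ ∧ qmk F g = y := by
    intro y hy
    have h1 := hK'syl hy
    rw [← h.syl_qimg hFH hFA hHF] at h1
    obtain ⟨g, hg, rfl⟩ := mem_qimg.1 h1
    exact ⟨g, Subgroup.mem_inf.2 ⟨hg, ⟨g, hy, rfl⟩⟩, rfl⟩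
  have hmemK' : ∀ g : QN F, (g : X) ∈ R₀ → qmk F g ∈ K' := by
    intro g hg
    obtain ⟨g', hg', hgg⟩ := (Subgroup.mem_inf.1 hg).2
    rw [show g = g' from Subtype.ext hgg.symm]
    exact hg'
  set M₀ := F ⊔ R₀ with hM₀
  have hR₀F : R₀ ≤ normalizer (F : Set X) := hR₀H.trans hHF
  have hFR : F ⊓ R₀ = ⊥ := inf_eq_bot_of_primes hpr (core_isPGroup p H) hR₀r
  have hM₀card : Nat.card M₀ = Nat.card F * Nat.card R₀ :=
    card_sup_of_inf_eq_bot hR₀F hFR
  have hR₀syl : Nat.card R₀ = r ^ (Nat.card M₀).factorization r := by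
    obtain ⟨i, hi⟩ := IsPGroup.iff_card.1 (core_isPGroup p H)
    obtain ⟨j, hj⟩ := IsPGroup.iff_card.1 hR₀r
    rw [hM₀card, hi, hj, Nat.factorization_mul (pow_ne_zero _ (Fact.out : p.Prime).ne_zero)
      (pow_ne_zero _ (Fact.out : r.Prime).ne_zero), Nat.Prime.factorization_pow Fact.out,
      Nat.Prime.factorization_pow Fact.out, Finsupp.add_apply, Finsupp.single_apply,
      Finsupp.single_apply, if_neg hpr, if_pos rfl, zero_add]
  have hM₀n : ∀ x ∈ H, ∀ y ∈ R₀, x * y * x⁻¹ ∈ M₀ := by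
    intro x hx y hy
    obtain ⟨g, hg, hgy⟩ := himg (qmk F ⟨x, hHF hx⟩ * qmk F ⟨y, hR₀F hy⟩ * (qmk F ⟨x, hHF hx⟩)⁻¹)
      (conj_mem_of_mem_normalizer (le_normalizer_core r _ (mk_mem_qimg _ hx)) (hmemK' _ hy))
    rw [← map_inv, ← map_mul, ← map_mul] at hgy
    have h1 : (x * y * x⁻¹) * (g : X)⁻¹ ∈ F := by
      have := QuotientGroup.eq.1 hgy.symm
      have h2 : x * y * x⁻¹ * (g : X)⁻¹ =
          (g : X) * ((g : X)⁻¹ * (x * y * x⁻¹)) * (g : X)⁻¹ := by group
      rw [h2]
      refine conj_mem_of_mem_normalizer g.2 ?_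
      have h3 := inv_mem this
      simpa [mem_subgroupOf, mul_assoc] using h3
    have := mul_mem (mem_sup_left (T := R₀) h1) (mem_sup_right (S := F) hg)
    rwa [inv_mul_cancel_right] at this
  have hfrat : ∀ x ∈ H, ∃ f ∈ F, ∃ n ∈ normalizer (R₀ : Set X), x = f * n := by
    intro x hx
    obtain ⟨m, hm, hme⟩ := sylow_conj (N := M₀) (U := R₀) (U' := MulAut.conj x • R₀) le_sup_right
      (fun y hy => by
        rw [mem_conjSmul] at hy
        have := hM₀n x hx _ hy
        simpa [mul_assoc] using this)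
      hR₀syl (by rw [card_conjSmul, hR₀syl])
    obtain ⟨f, hf, y, hy, rfl⟩ := (mem_sup_iff_of_le_normalizer hR₀F).1 hm
    rw [← conjSmul_conjSmul, conjSmul_eq_self_of_mem_normalizer (le_normalizer hy)] at hme
    refine ⟨f, hf, f⁻¹ * x, mem_normalizer_iff_conjSmul.2 ?_, by rw [mul_inv_cancel_left]⟩
    rw [← conjSmul_conjSmul, hme, conjSmul_inv_conjSmul]
  -- the Frattini quotient of `F`
  set D : Subgroup X := (frattini F).map F.subtype with hD
  have hnormFD : normalizer (F : Set X) ≤ normalizer (D : Set X) :=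
    normalizer_le_char (hK := frattini_characteristic) _
  have hDF : D ≤ F := map_subtype_le _
  have hAD : A ≤ normalizer (D : Set X) := hFA.trans hnormFD
  have hHD : H ≤ normalizer (D : Set X) := hHF.trans hnormFD
  have h'' := h.qimg (hDF.trans hFH) hAD hHD
  have hFnil : Group.IsNilpotent F := (core_isPGroup p H).isNilpotent
  have hcommD : ∀ x ∈ F, ∀ y ∈ F, x * y * x⁻¹ * y⁻¹ ∈ D := by
    intro x hx y hy
    exact ⟨_, Cfsg.Agent.SolvStruct.commutator_le_frattini F
      (commutator_mem_commutator (mem_top (⟨x, hx⟩ : F)) (mem_top (⟨y, hy⟩ : F))), rfl⟩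
  set V := AbelianFixed.qimg D F with hVdef
  have hVR : ∀ g : X, g ∈ R₀ → (∀ v : QN D, (v : X) ∈ F → ∀ hg : g ∈ QN D,
      qmk D ⟨g, hg⟩ * qmk D v = qmk D v * qmk D ⟨g, hg⟩) → g = 1 := by
    intro g hg hcomm
    have hgF : zpowers g ≤ normalizer (F : Set X) := zpowers_le.2 (hR₀F hg)
    have hcop : (Nat.card (zpowers g)).Coprime (Nat.card (frattini F)) :=
      (pr_coprime hpr.symm (hR₀r.to_le (zpowers_le.2 hg)) (core_isPGroup p H)).coprime_dvd_right
        (card_subgroup_dvd_card _)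
    have hcent : zpowers g ≤ centralizer (F : Set X) := by
      refine le_centralizer_of_frattini hgF hcop fun a ha k hk => ?_
      obtain ⟨i, rfl⟩ := mem_zpowers_iff.1 ha
      have hgD : g ∈ QN D := hHD (hR₀H hg)
      have hkD : k ∈ QN D := hHD (hFH hk)
      have h1 : qmk D ⁅(⟨g, hgD⟩ : QN D) ^ i, (⟨k, hkD⟩ : QN D)⁆ = 1 := by
        rw [map_commutatorElement, map_zpow, commutatorElement_eq_one_iff_mul_comm]
        exact Commute.zpow_left (hcomm ⟨k, hkD⟩ hk hgD) i
      exact qmk_eq_one.1 h1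
    have h2 : g ∈ F ⊓ R₀ :=
      Subgroup.mem_inf.2 ⟨hCF (Subgroup.mem_inf.2 ⟨hR₀H hg, hcent (mem_zpowers g)⟩), hg⟩
    rwa [hFR, mem_bot] at h2
  have hRab : ∀ x ∈ R₀, ∀ y ∈ R₀, x * y = y * x := by
    have hle : ⁅AbelianFixed.qimg D R₀, AbelianFixed.qimg D R₀⁆ ≤ centralizer (V : Set (QT D)) :=
      h''.commutator_le_centralizer hpr (qimg_mono hFH) (isPGroup_qimg (core_isPGroup p H))
        (qimg_normalizer hFA) (qimg_comm hcommD) (qimg_mono hR₀H) (isPGroup_qimg hR₀r)
        (qimg_normalizer hR₀A) (qimg_normalizer hR₀F)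
    intro x hx y hy
    have hcR : ⁅x, y⁆ ∈ R₀ := by
      rw [commutatorElement_def]
      exact mul_mem (mul_mem (mul_mem hx hy) (inv_mem hx)) (inv_mem hy)
    rw [← commutatorElement_eq_one_iff_mul_comm]
    refine hVR _ hcR fun v hv hg => ?_
    have h1 := hle (commutator_mem_commutator
      (mk_mem_qimg (D := D) (U := R₀) ⟨x, hHD (hR₀H hx)⟩ hx)
      (mk_mem_qimg (D := D) (U := R₀) ⟨y, hHD (hR₀H hy)⟩ hy))
    rw [← map_commutatorElement] at h1
    exact (mem_centralizer_iff.1 h1 _ (mk_mem_qimg v hv)).symm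
  set Q := syl A H p ⊓ normalizer (R₀ : Set X) with hQ
  have hQA : A ≤ normalizer (Q : Set X) := norm_inf h.syl_norm (norm_normalizer hR₀A)
  have hQR : Q ≤ centralizer (R₀ : Set X) := by
    have hmid : AbelianFixed.qimg D Q ≤ centralizer (AbelianFixed.qimg D R₀ : Set (QT D)) := by
      refine h''.middle_centralizes hpr (qimg_mono hFH) (isPGroup_qimg (core_isPGroup p H))
        (qimg_normalizer hFA) (qimg_comm hcommD) (qimg_mono hR₀H) (isPGroup_qimg hR₀r)
        (qimg_normalizer hR₀A)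
        (qimg_comm (fun x hx y hy => by rw [hRab x hx y hy, mul_inv_cancel_right, mul_inv_cancel]; exact one_mem _))
        (qimg_normalizer hR₀F) ?_ (qimg_mono (inf_le_left.trans h.syl_le))
        (isPGroup_qimg (h.syl_pGroup.to_le inf_le_left)) (qimg_normalizer hQA)
        (qimg_normalizer inf_le_right)
      rw [eq_bot_iff]
      intro z hz
      obtain ⟨g, hg, rfl⟩ := mem_qimg.1 (Subgroup.mem_inf.1 hz).1
      have h1 : (g : X) = 1 := hVR g hg fun v hv hgN =>
        (mem_centralizer_iff.1 (Subgroup.mem_inf.1 hz).2 _ (mk_mem_qimg v hv)).symm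
      rw [mem_bot, show g = 1 from Subtype.ext h1, map_one]
    intro u hu
    rw [mem_centralizer_iff]
    intro x hx
    have hxD : x ∈ QN D := hHD (hR₀H hx)
    have huD : u ∈ QN D := hHD (h.syl_le hu.1)
    have h1 : qmk D ⁅(⟨u, huD⟩ : QN D), (⟨x, hxD⟩ : QN D)⁆ = 1 := by
      rw [map_commutatorElement, commutatorElement_eq_one_iff_mul_comm]
      exact (mem_centralizer_iff.1 (hmid (mk_mem_qimg _ hu)) _ (mk_mem_qimg _ hx)).symm
    rw [qmk_eq_one] at h1
    have h2 : u * x * u⁻¹ * x⁻¹ ∈ D ⊓ R₀ :=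
      Subgroup.mem_inf.2 ⟨h1, mul_mem (conj_mem_of_mem_normalizer hu.2 hx) (inv_mem hx)⟩
    rw [inf_eq_bot_of_primes hpr ((core_isPGroup p H).to_le hDF) hR₀r, mem_bot, mul_inv_eq_one,
      mul_inv_eq_iff_eq_mul] at h2
    exact h2.symm
  -- hence `syl p` is the core
  have hPF : syl A H p ≤ F := by
    intro u hu
    obtain ⟨f, hf, n, hn, rfl⟩ := hfrat u (h.syl_le hu)
    have hnP : n ∈ syl A H p := by
      have := mul_mem (inv_mem (hFP hf)) hu
      rwa [inv_mul_cancel_left] at this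
    have hnF : n ∈ F := by
      have hnN : n ∈ QN F := hHF (h.syl_le hnP)
      have hsol' := h'.solvable_pr hpr hH'
      have h0' : core p (AbelianFixed.qimg F H) = ⊥ := qimg_core_eq_bot
      have hc := centralizer_core_le (p := r) (r := p) hsol' hH'.symm h0'
      have h1 : qmk F ⟨n, hnN⟩ ∈ K' := by
        refine hc (Subgroup.mem_inf.2 ⟨mk_mem_qimg _ (h.syl_le hnP), mem_centralizer_iff.2 fun y hy => ?_⟩)
        obtain ⟨g, hg, rfl⟩ := himg y hy
        rw [← map_mul, ← map_mul]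
        exact congrArg _ (Subtype.ext (mem_centralizer_iff.1 (hQR (Subgroup.mem_inf.2 ⟨hnP, hn⟩)) g hg))
      have h2 : qmk F ⟨n, hnN⟩ ∈ AbelianFixed.qimg F (syl A H p) ⊓ K' :=
        Subgroup.mem_inf.2 ⟨mk_mem_qimg _ hnP, h1⟩
      rw [inf_eq_bot_of_primes hpr (isPGroup_qimg h.syl_pGroup) (core_isPGroup r _), mem_bot,
        qmk_eq_one] at h2
      exact h2
    exact mul_mem hf hnF
  exact (le_antisymm hPF hFP).symm ▸ hHF

/-- The `r`-elements lie in the core times the normalizer of the Sylow `p`-subgroup. -/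
theorem pr_struct (hpr : p ≠ r) (hH : PR p r H) {x : X} (hx : x ∈ syl A H r) :
    ∃ s ∈ core r H, ∃ k ∈ syl A H r ⊓ normalizer (syl A H p : Set X), x = s * k := by
  set S := core r H with hS
  have hSH : S ≤ H := core_le r H
  have hSA : A ≤ normalizer (S : Set X) := norm_core h.norm
  have hHS : H ≤ normalizer (S : Set X) := le_normalizer_core r H
  set P := syl A H p with hP
  have h' := h.qimg hSH hSA hHS
  have hnorm := h'.le_normalizer_syl hpr
    (fun s hs hd => hH s hs (hd.trans (card_qimg_dvd hHS))) (qimg_core_eq_bot (r := r))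
  rw [← h.syl_qimg hSH hSA hHS] at hnorm
  have hPS : P ≤ normalizer (S : Set X) := h.syl_le.trans hHS
  have hxH := h.syl_le hx
  set M₀ := S ⊔ P with hM₀
  have hcard : Nat.card M₀ = Nat.card S * Nat.card P :=
    card_sup_of_inf_eq_bot hPS (inf_eq_bot_of_primes hpr.symm (core_isPGroup r H) h.syl_pGroup)
  have hPsyl : Nat.card P = p ^ (Nat.card M₀).factorization p := by
    obtain ⟨i, hi⟩ := IsPGroup.iff_card.1 (core_isPGroup r H)
    obtain ⟨j, hj⟩ := IsPGroup.iff_card.1 (h.syl_pGroup (p := p))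
    rw [hcard, hi, hj, Nat.factorization_mul (pow_ne_zero _ (Fact.out : r.Prime).ne_zero)
      (pow_ne_zero _ (Fact.out : p.Prime).ne_zero), Nat.Prime.factorization_pow Fact.out,
      Nat.Prime.factorization_pow Fact.out, Finsupp.add_apply, Finsupp.single_apply,
      Finsupp.single_apply, if_neg hpr.symm, if_pos rfl, zero_add]
  have hxP : ∀ y ∈ P, x * y * x⁻¹ ∈ M₀ := by
    intro y hy
    have h1 : qmk S (⟨x, hHS hxH⟩ * ⟨y, hPS hy⟩ * ⟨x, hHS hxH⟩⁻¹) ∈ AbelianFixed.qimg S P := by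
      rw [map_mul, map_mul, map_inv]
      exact conj_mem_of_mem_normalizer (hnorm (mk_mem_qimg _ hxH)) (mk_mem_qimg _ hy)
    exact mem_of_qmk_mem (U := M₀) le_sup_left (qimg_mono le_sup_right h1)
  obtain ⟨m, hm, hme⟩ := sylow_conj (N := M₀) (U := P) (U' := MulAut.conj x • P) le_sup_right
    (fun y hy => by
      rw [mem_conjSmul] at hy
      have := hxP _ hy
      simpa [mul_assoc] using this)
    hPsyl (by rw [card_conjSmul, hPsyl])
  obtain ⟨s, hs, y, hy, rfl⟩ := (mem_sup_iff_of_le_normalizer hPS).1 hm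
  rw [← conjSmul_conjSmul, conjSmul_eq_self_of_mem_normalizer (le_normalizer hy)] at hme
  have hsR : s ∈ syl A H r := h.le_syl hSH hSA (core_isPGroup r H) hs
  refine ⟨s, hs, s⁻¹ * x, Subgroup.mem_inf.2 ⟨mul_mem (inv_mem hsR) hx, mem_normalizer_iff_conjSmul.2 ?_⟩,
    by rw [mul_inv_cancel_left]⟩
  rw [← conjSmul_conjSmul, hme, conjSmul_inv_conjSmul]

end Fpf

end Cfsg.Agent.AbelianFixed
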