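import Cfsg.Agent.Lib.AbelianFixed.Local

/-!
In a minimal counterexample the invariant Sylow subgroups would permute pairwise.
-/

set_option autoImplicit false

namespace Cfsg.Agent.AbelianFixed

open Subgroup
open scoped commutatorElement Pointwise
open Cfsg.Agent.CoprimeAct Cfsg.Agent.SolvBasic

universe u

variable {X : Type u} [Group X] [Finite X] {q : ℕ} {A G : Subgroup X}

/-- The part of the Sylow `r`-subgroup reachable from the Sylow `p`-subgroup in two-prime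
subgroups. -/
def Rs (A G : Subgroup X) (p r : ℕ) : Subgroup X :=
  ⨆ L : {L : Subgroup X // L ≤ G ∧ A ≤ normalizer (L : Set X) ∧ PR p r L ∧ syl A G p ≤ L},
    (L : Subgroup X) ⊓ syl A G r

/-- The two-prime subgroup generated by the Sylow `p`-subgroup and the reachable part. -/
def Mid (A G : Subgroup X) (p r : ℕ) : Subgroup X := syl A G p ⊔ Rs A G p r

namespace Fpf

variable (h : Fpf q A G)
include h

/-- A map without fixed points hits every element. -/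
theorem exists_inv_mul_conj {Y : Subgroup X} {a : X} (ha : a ∈ normalizer (Y : Set X))
    (hYa : Y ⊓ centralizer ({a} : Set X) = ⊥) {y : X} (hy : y ∈ Y) :
    ∃ z ∈ Y, y = z⁻¹ * (a * z * a⁻¹) := by
  have := h.hq
  let f : Y → Y := fun z => ⟨(z : X)⁻¹ * (a * z * a⁻¹),
    mul_mem (inv_mem z.2) (conj_mem_of_mem_normalizer ha z.2)⟩
  have hinj : Function.Injective f := by
    intro z w hzw
    have h1 : (z : X)⁻¹ * (a * z * a⁻¹) = (w : X)⁻¹ * (a * w * a⁻¹) := congrArg Subtype.val hzw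
    have h2 : a * ((w : X) * (z : X)⁻¹) = ((w : X) * (z : X)⁻¹) * a := by
      calc a * ((w : X) * (z : X)⁻¹)
          = (w : X) * ((w : X)⁻¹ * (a * w * a⁻¹)) * (a * (z : X)⁻¹) := by group
        _ = (w : X) * ((z : X)⁻¹ * (a * z * a⁻¹)) * (a * (z : X)⁻¹) := by rw [h1]
        _ = ((w : X) * (z : X)⁻¹) * a := by group
    have h3 : (w : X) * (z : X)⁻¹ ∈ Y ⊓ centralizer ({a} : Set X) :=
      Subgroup.mem_inf.2 ⟨mul_mem w.2 (inv_mem z.2), mem_centralizer_one.2 h2⟩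
    rw [hYa, mem_bot, mul_inv_eq_one] at h3
    exact Subtype.ext h3.symm
  obtain ⟨z, hz⟩ := (Finite.injective_iff_surjective.1 hinj) ⟨y, hy⟩
  exact ⟨z, z.2, (congrArg Subtype.val hz).symm⟩

variable {p r : ℕ} [Fact p.Prime] [Fact r.Prime]

theorem rs_le : Rs A G p r ≤ syl A G r := iSup_le fun _ => inf_le_right

theorem rs_norm : A ≤ normalizer (Rs A G p r : Set X) :=
  norm_iSup fun L => norm_inf L.2.2.1 h.syl_norm

theorem mid_le : Mid A G p r ≤ G := sup_le h.syl_le (h.rs_le.trans h.syl_le)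

theorem mid_norm : A ≤ normalizer (Mid A G p r : Set X) := norm_sup h.syl_norm h.rs_norm

theorem syl_le_mid : syl A G p ≤ Mid A G p r := le_sup_left

theorem rs_le_mid : Rs A G p r ≤ Mid A G p r := le_sup_right

theorem rs_mul (hpr : p ≠ r) {v : X} (hv : v ∈ Rs A G p r) :
    ∀ u ∈ syl A G p, ∃ u' ∈ syl A G p, ∃ w ∈ Rs A G p r, v * u = u' * w := by
  refine Subgroup.iSup_induction _
    (C := fun v => ∀ u ∈ syl A G p, ∃ u' ∈ syl A G p, ∃ w ∈ Rs A G p r, v * u = u' * w) hv ?_ ?_ ?_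
  · rintro ⟨L, hLG, hLA, hPR, hPL⟩ v hv u hu
    obtain ⟨u', hu', w, hw, heq⟩ := (h.mono hLG hLA).exists_mul hpr hPR (mul_mem hv.1 (hPL hu))
    rw [← h.syl_inf hLG hLA] at hu' hw
    exact ⟨u', hu'.2, w, le_iSup (fun L : {L : Subgroup X // L ≤ G ∧ A ≤ normalizer (L : Set X) ∧
      PR p r L ∧ syl A G p ≤ L} => (L : Subgroup X) ⊓ syl A G r) ⟨L, hLG, hLA, hPR, hPL⟩ hw, heq⟩
  · exact fun u hu => ⟨u, hu, 1, one_mem _, by rw [one_mul, mul_one]⟩
  · intro v v' hv hv' u hu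
    obtain ⟨u₁, hu₁, w₁, hw₁, e₁⟩ := hv' u hu
    obtain ⟨u₂, hu₂, w₂, hw₂, e₂⟩ := hv u₁ hu₁
    exact ⟨u₂, hu₂, w₂ * w₁, mul_mem hw₂ hw₁, by rw [mul_assoc, e₁, ← mul_assoc, e₂, mul_assoc]⟩

theorem mem_mid (hpr : p ≠ r) {x : X} (hx : x ∈ Mid A G p r) :
    ∃ u ∈ syl A G p, ∃ w ∈ Rs A G p r, x = u * w := by
  let S : Subgroup X :=
    { carrier := {x | ∃ u ∈ syl A G p, ∃ w ∈ Rs A G p r, x = u * w}
      one_mem' := ⟨1, one_mem _, 1, one_mem _, (one_mul 1).symm⟩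
      mul_mem' := by
        rintro _ _ ⟨u, hu, w, hw, rfl⟩ ⟨u', hu', w', hw', rfl⟩
        obtain ⟨u₂, hu₂, w₂, hw₂, e⟩ := h.rs_mul hpr hw u' hu'
        refine ⟨u * u₂, mul_mem hu hu₂, w₂ * w', mul_mem hw₂ hw', ?_⟩
        calc u * w * (u' * w') = u * (w * u') * w' := by group
          _ = u * (u₂ * w₂) * w' := by rw [e]
          _ = u * u₂ * (w₂ * w') := by group
      inv_mem' := by
        rintro _ ⟨u, hu, w, hw, rfl⟩
        obtain ⟨u₂, hu₂, w₂, hw₂, e⟩ := h.rs_mul hpr (inv_mem hw) u⁻¹ (inv_mem hu)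
        exact ⟨u₂, hu₂, w₂, hw₂, by rw [mul_inv_rev, e]⟩ }
  exact (sup_le (fun u hu => ⟨u, hu, 1, one_mem _, (mul_one u).symm⟩)
    (fun w hw => ⟨1, one_mem _, w, hw, (one_mul w).symm⟩) : Mid A G p r ≤ S) hx

theorem mid_inf (hpr : p ≠ r) : Mid A G p r ⊓ syl A G r = Rs A G p r := by
  refine le_antisymm (fun x hx => ?_) (le_inf h.rs_le_mid h.rs_le)
  obtain ⟨u, hu, w, hw, rfl⟩ := h.mem_mid hpr hx.1
  have h1 : u ∈ syl A G p ⊓ syl A G r :=
    Subgroup.mem_inf.2 ⟨hu, by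
      have h2 : u * w * w⁻¹ ∈ syl A G r := mul_mem hx.2 (inv_mem (h.rs_le hw))
      rwa [mul_inv_cancel_right] at h2⟩
  rw [inf_eq_bot_of_primes hpr h.syl_pGroup h.syl_pGroup, mem_bot] at h1
  rwa [h1, one_mul]

theorem mid_pr (hpr : p ≠ r) : PR p r (Mid A G p r) := by
  intro s hs hd
  let f : ↥(syl A G p) × ↥(Rs A G p r) → ↥(Mid A G p r) := fun t =>
    ⟨t.1 * t.2, mul_mem (h.syl_le_mid t.1.2) (h.rs_le_mid t.2.2)⟩
  have hinj : Function.Injective f := by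
    rintro ⟨a, b⟩ ⟨c, d⟩ heq
    have h1 : (a : X) * b = c * d := congrArg Subtype.val heq
    have h2 : (c : X)⁻¹ * a = d * (b : X)⁻¹ := by
      rw [eq_mul_inv_iff_mul_eq, mul_assoc, h1, inv_mul_cancel_left]
    have h3 : (c : X)⁻¹ * a ∈ syl A G p ⊓ syl A G r :=
      Subgroup.mem_inf.2 ⟨mul_mem (inv_mem c.2) a.2,
        h.rs_le (h2 ▸ mul_mem d.2 (inv_mem b.2))⟩
    rw [inf_eq_bot_of_primes hpr h.syl_pGroup h.syl_pGroup, mem_bot, inv_mul_eq_one] at h3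
    rw [h3, mul_right_inj] at h1
    exact Prod.ext (Subtype.ext h3.symm) (Subtype.ext h1)
  have hsurj : Function.Surjective f := fun x => by
    obtain ⟨u, hu, w, hw, hx⟩ := h.mem_mid hpr x.2
    exact ⟨⟨⟨u, hu⟩, ⟨w, hw⟩⟩, Subtype.ext hx.symm⟩
  rw [← Nat.card_eq_of_bijective f ⟨hinj, hsurj⟩, Nat.card_prod] at hd
  obtain ⟨i, hi⟩ := IsPGroup.iff_card.1 (h.syl_pGroup (p := p))
  obtain ⟨j, hj⟩ := IsPGroup.iff_card.1 ((h.syl_pGroup (p := r)).to_le (h.rs_le (p := p)))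
  rw [hi, hj] at hd
  rcases (Nat.Prime.dvd_mul hs).1 hd with h1 | h1
  · exact Or.inl ((Nat.prime_dvd_prime_iff_eq hs Fact.out).1 (hs.dvd_of_dvd_pow h1))
  · exact Or.inr ((Nat.prime_dvd_prime_iff_eq hs Fact.out).1 (hs.dvd_of_dvd_pow h1))

theorem syl_mid : syl A (Mid A G p r) p = syl A G p := by
  rw [← h.syl_inf h.mid_le h.mid_norm, inf_eq_right.2 h.syl_le_mid]

theorem syl_mid' (hpr : p ≠ r) : syl A (Mid A G p r) r = Rs A G p r := by
  rw [← h.syl_inf h.mid_le h.mid_norm, h.mid_inf hpr]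

/-- Completeness is symmetric. -/
theorem rs_symm (hpr : p ≠ r) (he : Rs A G p r = syl A G r) : Rs A G r p = syl A G p := by
  refine le_antisymm h.rs_le (le_trans (le_inf h.syl_le_mid le_rfl) (le_iSup (fun L :
    {L : Subgroup X // L ≤ G ∧ A ≤ normalizer (L : Set X) ∧ PR r p L ∧ syl A G r ≤ L} =>
    (L : Subgroup X) ⊓ syl A G p)
    ⟨Mid A G p r, h.mid_le, h.mid_norm, (h.mid_pr hpr).symm, he ▸ h.rs_le_mid⟩))

theorem syl_ne_bot_of_rs (hne : Rs A G p r ≠ syl A G r) : syl A G p ≠ ⊥ := fun hb => by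
  refine hne (le_antisymm h.rs_le (le_trans (le_inf le_rfl le_rfl) (le_iSup (fun L :
    {L : Subgroup X // L ≤ G ∧ A ≤ normalizer (L : Set X) ∧ PR p r L ∧ syl A G p ≤ L} =>
    (L : Subgroup X) ⊓ syl A G r)
    ⟨syl A G r, h.syl_le, h.syl_norm, fun s hs hd => ?_, hb ▸ bot_le⟩)))
  rw [h.syl_card] at hd
  exact Or.inr ((Nat.prime_dvd_prime_iff_eq hs Fact.out).1 (hs.dvd_of_dvd_pow hd))

end Fpf

namespace Min

variable (h : Min q A G)
include h

variable {p r : ℕ} [Fact p.Prime] [Fact r.Prime]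

theorem in_rs (hpr : p ≠ r) {H : Subgroup X} (hH : H ≤ G) (hA : A ≤ normalizer (H : Set X))
    (hne : H ≠ G) (hPH : syl A G p ≤ H) : H ⊓ syl A G r ≤ Rs A G p r := by
  obtain ⟨L, hLH, hLA, hPR, hLp, hLr⟩ := h.hall_pair hpr hH hA (h.sol H hH hA hne)
  have hLf := h.mono (hLH.trans hH) hLA
  have hPL : syl A G p ≤ L := by
    rw [← inf_eq_right.2 hPH, h.syl_inf hH hA, ← hLp]
    exact hLf.syl_le
  rw [h.syl_inf hH hA, ← hLr, ← h.syl_inf (hLH.trans hH) hLA]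
  exact le_iSup (fun L :
    {L : Subgroup X // L ≤ G ∧ A ≤ normalizer (L : Set X) ∧ PR p r L ∧ syl A G p ≤ L} =>
    (L : Subgroup X) ⊓ syl A G r) ⟨L, hLH.trans hH, hLA, hPR, hPL⟩

theorem normalizer_in_rs (hpr : p ≠ r) {s : ℕ} [Fact s.Prime] {U : Subgroup X} (hU : U ≤ G)
    (hA : A ≤ normalizer (U : Set X)) (hUs : IsPGroup s U) (hne : U ≠ ⊥)
    (hP : syl A G p ≤ normalizer (U : Set X)) {x : X} (hx : x ∈ syl A G r)
    (hxN : x ∈ normalizer (U : Set X)) : x ∈ Rs A G p r :=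
  h.in_rs hpr inf_le_left (h.norm_inf_normalizer hA) (h.inf_normalizer_ne hU hA hUs hne)
    (le_inf h.syl_le hP) ⟨⟨h.syl_le hx, hxN⟩, hx⟩

/-- Two parts of the Sylow `r`-subgroup are reachable. -/
theorem two_parts (hpr : p ≠ r) (hne : Rs A G p r ≠ syl A G r) :
    Two A fun a => syl A G r ⊓ centralizer ({a} : Set X) ≤ Rs A G p r := by
  set P := syl A G p with hP
  set R := syl A G r with hR
  have hPne : P ≠ ⊥ := h.syl_ne_bot_of_rs hne
  have hPp : IsPGroup p P := h.syl_pGroup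
  set ZP := P ⊓ centralizer (P : Set X) with hZP
  have hZPn : P ≤ normalizer (ZP : Set X) := fun u hu => mem_normalizer_of_forall fun y hy => by
    rw [conj_eq_of_commute (mem_centralizer_iff.1 hy.2 u hu)]
    exact hy
  have hZPA : A ≤ normalizer (ZP : Set X) :=
    norm_inf h.syl_norm (AbelianFixed.norm_centralizer h.syl_norm)
  have hZPG : ZP ≤ G := inf_le_left.trans h.syl_le
  have hZPne : ZP ≠ ⊥ := by
    obtain ⟨x, hx, hx1, hxc⟩ := exists_central_mod hPp (bot_le : (⊥ : Subgroup X) ≤ P)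
      (fun u _ => mem_normalizer_of_forall fun y hy => by
        rw [mem_bot.1 hy, mul_one, mul_inv_cancel]; exact one_mem _) hPne.symm
    refine fun hb => hx1 (hb ▸ Subgroup.mem_inf.2 ⟨hx, mem_centralizer_iff.2 fun y hy => ?_⟩)
    have h1 := mem_bot.1 (hxc y hy)
    rw [mul_inv_eq_one, mul_inv_eq_iff_eq_mul] at h1
    exact h1.symm
  -- central parts
  have hcentral : ∀ b ∈ A, b ≠ 1 → ZP ⊓ centralizer ({b} : Set X) ≠ ⊥ →
      R ⊓ centralizer ({b} : Set X) ≤ Rs A G p r := by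
    intro b hb hb1 hbne x hx
    have hb1' : ∀ z ∈ ZP ⊓ centralizer ({b} : Set X), z * x = x * z := fun z hz =>
      h.ab b hb hb1 z (hZPG hz.1) x (h.syl_le hx.1) (mem_centralizer_one.1 hz.2)
        (mem_centralizer_one.1 hx.2)
    refine h.normalizer_in_rs hpr (s := p) (U := ZP ⊓ centralizer ({b} : Set X))
      (inf_le_left.trans hZPG) (norm_inf hZPA (h.toSetup.norm_centralizer_elt hb))
      (hPp.to_le (inf_le_left.trans inf_le_left)) hbne
      (fun u hu => mem_normalizer_of_forall fun y hy => by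
        rw [conj_eq_of_commute (mem_centralizer_iff.1 hy.1.2 u hu)]
        exact hy) hx.1
      (mem_normalizer_of_forall fun y hy => by
        rw [conj_eq_of_commute (hb1' y hy).symm]
        exact hy)
  obtain ⟨a, ha, ha1, haZ⟩ : ∃ a ∈ A, a ≠ 1 ∧ ZP ⊓ centralizer ({a} : Set X) ≠ ⊥ := by
    by_contra hcon
    push Not at hcon
    exact hZPne (le_bot_iff.1 (h.toSetup.le_of_parts hZPG hZPA fun b hb hb1 => (hcon b hb hb1).le))
  by_cases hsecond : ∃ c ∈ A, c ≠ 1 ∧ c ∉ zpowers a ∧ ZP ⊓ centralizer ({c} : Set X) ≠ ⊥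
  · obtain ⟨c, hc, hc1, hca, hcZ⟩ := hsecond
    exact ⟨a, ha, c, hc, ha1, hc1, hca, hcentral a ha ha1 haZ, hcentral c hc hc1 hcZ⟩
  push Not at hsecond
  have hZPa : ZP ≤ centralizer ({a} : Set X) := by
    refine h.toSetup.le_of_parts hZPG hZPA fun b hb hb1 x hx => ?_
    by_cases hba : b ∈ zpowers a
    · exact mem_centralizer_one.2 (h.toSetup.commute_of_zpowers
        (h.toSetup.mem_zpowers_symm ha hb1 hba) (mem_centralizer_one.1 hx.2))
    · rw [hsecond b hb hb1 hba, mem_bot] at hx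
      rw [hx]
      exact one_mem _
  by_cases hKP : ZP = P
  · -- abelian case
    exfalso
    obtain ⟨b, hb, hab, hb1⟩ := h.toSetup.exists_not_mem a
    obtain ⟨habA, hab1, hab2, hab3⟩ := h.toSetup.exists_third ha ha1 hb hab
    refine h.two_trivial_false hPne ⟨b, hb, a * b, habA, hb1, hab1, hab3, ?_, ?_⟩ (Or.inr ?_)
    · exact h.part_inf ha ha1 hb hab h.syl_le (hKP.symm.le.trans hZPa)
    · exact h.part_inf ha ha1 habA hab2 h.syl_le (hKP.symm.le.trans hZPa)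
    · intro x hx y hy
      have hy' : y ∈ ZP := hKP.ge hy
      exact mem_centralizer_iff.1 hy'.2 x hx
  let Z2 : Subgroup X :=
    { carrier := {x | x ∈ P ∧ ∀ y ∈ P, x * y * x⁻¹ * y⁻¹ ∈ ZP}
      one_mem' := ⟨one_mem _, fun y _ => by simp⟩
      mul_mem' := by
        rintro x x' ⟨hx, hx'⟩ ⟨hy, hy'⟩
        refine ⟨mul_mem hx hy, fun y hyP => ?_⟩
        have : x * x' * y * (x * x')⁻¹ * y⁻¹ =
            x * (x' * y * x'⁻¹ * y⁻¹) * x⁻¹ * (x * y * x⁻¹ * y⁻¹) := by group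
        rw [this]
        exact mul_mem (conj_mem_of_mem_normalizer (hZPn hx) (hy' y hyP)) (hx' y hyP)
      inv_mem' := by
        rintro x ⟨hx, hx'⟩
        refine ⟨inv_mem hx, fun y hy => ?_⟩
        have : x⁻¹ * y * x⁻¹⁻¹ * y⁻¹ = x⁻¹ * (x * y * x⁻¹ * y⁻¹)⁻¹ * x⁻¹⁻¹ := by group
        rw [this]
        exact conj_mem_of_mem_normalizer (inv_mem (hZPn hx)) (inv_mem (hx' y hy)) }
  have hZ2A : A ≤ normalizer (Z2 : Set X) := fun b hb => mem_normalizer_of_forall fun x hx =>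
    ⟨conj_mem_of_mem_normalizer (h.syl_norm hb) hx.1, fun y hy => by
      have h1 := conj_mem_of_mem_normalizer (hZPA hb)
        (hx.2 _ (conj_mem_of_mem_normalizer (inv_mem (h.syl_norm hb)) hy))
      have h2 : b * (x * (b⁻¹ * y * b⁻¹⁻¹) * x⁻¹ * (b⁻¹ * y * b⁻¹⁻¹)⁻¹) * b⁻¹ =
          b * x * b⁻¹ * y * (b * x * b⁻¹)⁻¹ * y⁻¹ := by group
      rwa [h2] at h1⟩
  have hZ2G : Z2 ≤ G := fun x hx => h.syl_le hx.1
  obtain ⟨c, hc, hc1, hcW⟩ : ∃ c ∈ A, c ≠ 1 ∧ ¬ (Z2 ⊓ centralizer ({c} : Set X) ≤ ZP) := by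
    by_contra hcon
    push Not at hcon
    obtain ⟨x, hx, hx1, hxc⟩ := exists_central_mod hPp (inf_le_left : ZP ≤ P) hZPn hKP
    exact hx1 (h.toSetup.le_of_parts hZ2G hZ2A hcon (show x ∈ Z2 from ⟨hx, hxc⟩))
  obtain ⟨x₀, hx₀, hx₀Z⟩ := SetLike.not_le_iff_exists.1 hcW
  set W := Z2 ⊓ centralizer ({c} : Set X) with hW
  have hWA : A ≤ normalizer (W : Set X) := norm_inf hZ2A (h.toSetup.norm_centralizer_elt hc)
  have hWP : W ≤ P := fun x hx => hx.1.1
  have hPA : ∀ b ∈ A, A ≤ normalizer (P ⊓ centralizer ({b} : Set X) : Subgroup X) := fun b hb =>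
    norm_inf h.syl_norm (h.toSetup.norm_centralizer_elt hb)
  -- `a`-fixed elements of `Z2` and `W`
  have hfixA : ∀ x ∈ W, a * x = x * a → ∀ d ∈ A, d ≠ 1 →
      ∀ y ∈ P ⊓ centralizer ({d} : Set X), x * y = y * x := by
    intro x hx hxa d hd hd1 y hy
    by_cases had : d ∈ zpowers a
    · exact h.ab a ha ha1 x (h.syl_le (hWP hx)) y (h.syl_le hy.1) hxa
        (h.toSetup.commute_of_zpowers (h.toSetup.mem_zpowers_symm ha hd1 had)
          (mem_centralizer_one.1 hy.2))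
    have hda : a ∉ zpowers d := fun e => had (h.toSetup.mem_zpowers_symm hd ha1 e)
    obtain ⟨z, hz, rfl⟩ := h.exists_inv_mul_conj (hPA d hd ha)
      (h.part_inf hd hd1 ha hda (inf_le_left.trans h.syl_le) inf_le_right) hy
    have hc0 : x * z * x⁻¹ * z⁻¹ ∈ ZP := hx.1.2 z hz.1
    have hfix := conj_eq_of_commute (mem_centralizer_one.1 (hZPa hc0))
    have hax : a * x * a⁻¹ = x := conj_eq_of_commute hxa
    have h2 : x * (a * z * a⁻¹) * x⁻¹ * (a * z * a⁻¹)⁻¹ = x * z * x⁻¹ * z⁻¹ := by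
      calc x * (a * z * a⁻¹) * x⁻¹ * (a * z * a⁻¹)⁻¹
          = (a * x * a⁻¹) * (a * z * a⁻¹) * (a * x * a⁻¹)⁻¹ * (a * z * a⁻¹)⁻¹ := by rw [hax]
        _ = a * (x * z * x⁻¹ * z⁻¹) * a⁻¹ := by group
        _ = x * z * x⁻¹ * z⁻¹ := hfix
    set z' := a * z * a⁻¹
    have h3 : x * z' * x⁻¹ = (x * z * x⁻¹ * z⁻¹) * z' := by
      rw [← h2, inv_mul_cancel_right]
    have h4 : x * z⁻¹ * x⁻¹ = z⁻¹ * (x * z * x⁻¹ * z⁻¹)⁻¹ := by group
    have h5 : x * (z⁻¹ * z') * x⁻¹ = z⁻¹ * z' := by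
      calc x * (z⁻¹ * z') * x⁻¹ = (x * z⁻¹ * x⁻¹) * (x * z' * x⁻¹) := by group
        _ = z⁻¹ * (x * z * x⁻¹ * z⁻¹)⁻¹ * ((x * z * x⁻¹ * z⁻¹) * z') := by rw [h3, h4]
        _ = z⁻¹ * z' := by rw [mul_assoc, inv_mul_cancel_left]
    exact mul_inv_eq_iff_eq_mul.1 h5
  have hnc : ∀ x ∈ W, (∀ d ∈ A, d ≠ 1 → ∀ y ∈ P ⊓ centralizer ({d} : Set X), x * y = y * x) →
      x ∈ ZP := fun x hx hall => Subgroup.mem_inf.2 ⟨hWP hx, mem_centralizer_iff.2 fun y hy => by
    have hle : P ≤ centralizer ({x} : Set X) := h.toSetup.le_of_parts h.syl_le h.syl_norm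
      fun d hd hd1 z hz => mem_centralizer_one.2 (hall d hd hd1 z hz)
    exact (mem_centralizer_one.1 (hle hy)).symm⟩
  have hca : c ∉ zpowers a := fun hca => hx₀Z (hnc x₀ hx₀ (hfixA x₀ hx₀
    (h.toSetup.commute_of_zpowers (h.toSetup.mem_zpowers_symm ha hc1 hca)
      (mem_centralizer_one.1 hx₀.2))))
  have hac : a ∉ zpowers c := fun e => hca (h.toSetup.mem_zpowers_symm hc ha1 e)
  have hWa : W ⊓ centralizer ({a} : Set X) = ⊥ :=
    h.part_inf hc hc1 ha hac (inf_le_left.trans hZ2G) inf_le_right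
  obtain ⟨d, hd, hd1, y₀, hy₀, hy₀x⟩ : ∃ d ∈ A, d ≠ 1 ∧
      ∃ y ∈ P ⊓ centralizer ({d} : Set X), x₀ * y ≠ y * x₀ := by
    by_contra hcon
    push Not at hcon
    exact hx₀Z (hnc x₀ hx₀ hcon)
  have hdc : d ∉ zpowers c := fun e => hy₀x (h.ab c hc hc1 x₀ (h.syl_le (hWP hx₀)) y₀
    (h.syl_le hy₀.1) (mem_centralizer_one.1 hx₀.2) (h.toSetup.commute_of_zpowers
      (h.toSetup.mem_zpowers_symm hc hd1 e) (mem_centralizer_one.1 hy₀.2)))
  have hda : d ∉ zpowers a := by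
    intro e
    have hya : a * y₀ = y₀ * a := h.toSetup.commute_of_zpowers
      (h.toSetup.mem_zpowers_symm ha hd1 e) (mem_centralizer_one.1 hy₀.2)
    obtain ⟨z, hz, hxz⟩ := h.exists_inv_mul_conj (hWA ha) hWa hx₀
    have hc0 : z * y₀ * z⁻¹ * y₀⁻¹ ∈ ZP := hz.1.2 y₀ hy₀.1
    have hfix := conj_eq_of_commute (mem_centralizer_one.1 (hZPa hc0))
    have hay : a * y₀ * a⁻¹ = y₀ := conj_eq_of_commute hya
    have h2 : (a * z * a⁻¹) * y₀ * (a * z * a⁻¹)⁻¹ * y₀⁻¹ = z * y₀ * z⁻¹ * y₀⁻¹ := by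
      calc (a * z * a⁻¹) * y₀ * (a * z * a⁻¹)⁻¹ * y₀⁻¹
          = (a * z * a⁻¹) * (a * y₀ * a⁻¹) * (a * z * a⁻¹)⁻¹ * (a * y₀ * a⁻¹)⁻¹ := by rw [hay]
        _ = a * (z * y₀ * z⁻¹ * y₀⁻¹) * a⁻¹ := by group
        _ = z * y₀ * z⁻¹ * y₀⁻¹ := hfix
    refine hy₀x ?_
    set z' := a * z * a⁻¹
    have h3 : z' * y₀ * z'⁻¹ = z * y₀ * z⁻¹ := mul_right_cancel h2
    rw [hxz]
    calc z⁻¹ * z' * y₀ = z⁻¹ * (z' * y₀ * z'⁻¹) * z' := by group
      _ = z⁻¹ * (z * y₀ * z⁻¹) * z' := by rw [h3]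
      _ = y₀ * (z⁻¹ * z') := by group
  -- the commutators
  set Pd := P ⊓ centralizer ({d} : Set X) with hPd
  set Z1 := closure {z : X | ∃ y ∈ Pd, ∃ w ∈ W, z = y * w * y⁻¹ * w⁻¹} with hZ1
  have hZ1ZP : Z1 ≤ ZP := by
    rw [hZ1, closure_le]
    rintro _ ⟨y, hy, w, hw, rfl⟩
    have := inv_mem (hw.1.2 y hy.1)
    simpa [mul_assoc] using this
  have hZ1A : A ≤ normalizer (Z1 : Set X) := by
    refine norm_closure ?_
    rintro b hb _ ⟨y, hy, w, hw, rfl⟩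
    refine subset_closure ⟨_, conj_mem_of_mem_normalizer (hPA d hd hb) hy, _,
      conj_mem_of_mem_normalizer (hWA hb) hw, ?_⟩
    group
  have hZ1ne : Z1 ≠ ⊥ := by
    intro hb
    have h1 : y₀ * x₀ * y₀⁻¹ * x₀⁻¹ ∈ Z1 := subset_closure ⟨y₀, hy₀, x₀, hx₀, rfl⟩
    rw [hb, mem_bot, mul_inv_eq_one, mul_inv_eq_iff_eq_mul] at h1
    exact hy₀x h1.symm
  have hZ1d : Z1 ⊓ centralizer ({d} : Set X) = ⊥ :=
    h.part_inf ha ha1 hd hda (hZ1ZP.trans hZPG) (hZ1ZP.trans hZPa)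
  -- the part of `c`
  have hWne : W ≠ ⊥ := fun hb => hx₀Z (by
    have h1 : x₀ = 1 := mem_bot.1 (hb ▸ hx₀)
    rw [h1]; exact one_mem _)
  set H := G ⊓ centralizer (W : Set X) with hH
  have hHA : A ≤ normalizer (H : Set X) := norm_inf h.norm (AbelianFixed.norm_centralizer hWA)
  have hHne : H ≠ G := fun he => h.inf_normalizer_ne (p := p) (hWP.trans h.syl_le) hWA
    (hPp.to_le hWP) hWne (le_antisymm inf_le_left (le_inf le_rfl
      ((inf_eq_left.1 he).trans (fun g hg => mem_normalizer_of_forall fun w hw => by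
        rw [conj_eq_of_commute (mem_centralizer_iff.1 hg w hw).symm]
        exact hw))))
  obtain ⟨L, hLH, hLA, hPR, hLp, hLr⟩ := h.hall_pair hpr inf_le_left hHA
    (h.sol H inf_le_left hHA hHne)
  have hLf := h.mono (hLH.trans inf_le_left) hLA
  rw [← h.syl_inf inf_le_left hHA] at hLp hLr
  set B := H ⊓ P with hB
  have hZPB : ZP ≤ B := le_inf (le_inf hZPG (fun z hz => mem_centralizer_iff.2 fun w hw =>
    mem_centralizer_iff.1 hz.2 w (hWP hw))) inf_le_left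
  have hBn : P ≤ normalizer (B : Set X) := fun u hu => mem_normalizer_of_forall fun b hb => by
    refine Subgroup.mem_inf.2 ⟨Subgroup.mem_inf.2
      ⟨mul_mem (mul_mem (h.syl_le hu) hb.1.1) (inv_mem (h.syl_le hu)),
        mem_centralizer_iff.2 fun w hw => ?_⟩, mul_mem (mul_mem hu hb.2) (inv_mem hu)⟩
    have hz : w * u⁻¹ * w⁻¹ * u⁻¹⁻¹ ∈ ZP := hw.1.2 u⁻¹ (inv_mem hu)
    have hbw : u⁻¹ * w * u * b = b * (u⁻¹ * w * u) := by
      have e : u⁻¹ * w * u = (w * u⁻¹ * w⁻¹ * u⁻¹⁻¹)⁻¹ * w := by group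
      have h1 : Commute b (w * u⁻¹ * w⁻¹ * u⁻¹⁻¹) := mem_centralizer_iff.1 hz.2 b hb.2
      have h2 : Commute b w := (mem_centralizer_iff.1 hb.1.2 w hw).symm
      rw [e]
      exact ((h1.inv_right.mul_right h2).eq).symm
    calc w * (u * b * u⁻¹) = u * (u⁻¹ * w * u * b) * u⁻¹ := by group
      _ = u * (b * (u⁻¹ * w * u)) * u⁻¹ := by rw [hbw]
      _ = u * b * u⁻¹ * w := by group
  refine ⟨a, ha, c, hc, ha1, hc1, hca, hcentral a ha ha1 haZ, fun x hx => ?_⟩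
  have hxL : x ∈ syl A L r := by
    rw [hLr]
    refine Subgroup.mem_inf.2 ⟨Subgroup.mem_inf.2 ⟨h.syl_le hx.1, mem_centralizer_iff.2 fun w hw => ?_⟩, hx.1⟩
    exact h.ab c hc hc1 w (h.syl_le (hWP hw)) x (h.syl_le hx.1) (mem_centralizer_one.1 hw.2)
      (mem_centralizer_one.1 hx.2)
  obtain ⟨s, hs, k, hk, rfl⟩ := hLf.pr_struct hpr hPR hxL
  rw [hLp, hLr] at hk
  refine mul_mem ?_ (h.normalizer_in_rs hpr (s := p) (inf_le_right.trans h.syl_le)
    (norm_inf hHA h.syl_norm) (hPp.to_le inf_le_right) (fun hb => hZPne (le_bot_iff.1 (hb ▸ hZPB)))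
    hBn hk.1.2 hk.2)
  have hSR : core r L ≤ H ⊓ R :=
    hLr ▸ hLf.le_syl (core_le r L) (norm_core hLA) (core_isPGroup r L)
  have hBL : B ≤ L := hLp ▸ hLf.syl_le
  have hcomm : Z1 ≤ centralizer (core r L : Set X) := by
    refine key (r := r) (q := q) (e := d) h.hq (h.exp_A d hd) (core_isPGroup r L)
      (norm_core hLA hd) (hZ1A hd)
      (fun hd' => h.cop (hd'.trans (card_dvd_of_le (hSR.trans (inf_le_right.trans h.syl_le)))))
      ((hZ1ZP.trans hZPB).trans (hBL.trans (le_normalizer_core r L)))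
      (pr_coprime hpr (hPp.to_le (hZ1ZP.trans inf_le_left)) (core_isPGroup r L)) hZ1d
      fun t ht htd z hz => ?_
    have htH := (hSR ht).1
    have hle : Z1 ≤ centralizer ({t} : Set X) := by
      rw [hZ1, closure_le]
      rintro _ ⟨y, hy, w, hw, rfl⟩
      have h1 : y ∈ centralizer ({t} : Set X) := mem_centralizer_one.2
        (h.ab d hd hd1 t htH.1 y (h.syl_le hy.1) htd (mem_centralizer_one.1 hy.2))
      have h2 : w ∈ centralizer ({t} : Set X) := mem_centralizer_one.2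
        (mem_centralizer_iff.1 htH.2 w hw).symm
      exact mul_mem (mul_mem (mul_mem h1 h2) (inv_mem h1)) (inv_mem h2)
    exact (mem_centralizer_one.1 (hle hz)).symm
  exact h.normalizer_in_rs hpr (s := p) (hZ1ZP.trans hZPG) hZ1A
    (hPp.to_le (hZ1ZP.trans inf_le_left)) hZ1ne
    (fun u hu => mem_normalizer_of_forall fun y hy => by
      rw [conj_eq_of_commute (mem_centralizer_iff.1 (hZ1ZP hy).2 u hu)]
      exact hy) (hSR hs).2
    (mem_normalizer_of_forall fun y hy => by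
      rw [conj_eq_of_commute (mem_centralizer_iff.1 (hcomm hy) s hs)]
      exact hy)

/-- In a failing pair the core is trivial and more. -/
theorem core_eq_bot (hpr : p ≠ r) (hne : Rs A G p r ≠ syl A G r) :
    core p (Mid A G r p) = ⊥ ∧
      Rs A G r p ⊓ centralizer (core r (Mid A G p r) : Set X) = ⊥ := by
  have hne' : Rs A G r p ≠ syl A G p := fun e => hne (h.rs_symm hpr.symm e)
  set P := syl A G p with hP
  set R := syl A G r with hR
  set Ps := Rs A G r p with hPs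
  set M := Mid A G p r with hM
  set M' := Mid A G r p with hM'
  set S := core r M with hS
  set T := core p M' with hT
  set X0 := Ps ⊓ centralizer (S : Set X) with hX0
  have hMf := h.mono h.mid_le (h.mid_norm (p := p) (r := r))
  have hM'f := h.mono h.mid_le (h.mid_norm (p := r) (r := p))
  have hPsP : Ps ≤ P := h.rs_le
  have hPsM : Ps ≤ M := hPsP.trans h.syl_le_mid
  have hMS : M ≤ normalizer (S : Set X) := le_normalizer_core r M
  have hSA : A ≤ normalizer (S : Set X) := norm_core h.mid_norm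
  have hSR : S ≤ Rs A G p r :=
    h.syl_mid' hpr ▸ hMf.le_syl (core_le r M) hSA (core_isPGroup r M)
  have hTA : A ≤ normalizer (T : Set X) := norm_core h.mid_norm
  have hTPs : T ≤ Ps :=
    (hM'f.le_syl (core_le p M') hTA (core_isPGroup p M')).trans (h.syl_mid' hpr.symm).le
  have hM'T : M' ≤ normalizer (T : Set X) := le_normalizer_core p M'
  have hRM' : R ≤ M' := h.syl_le_mid
  have hTS : T ≤ centralizer (S : Set X) := fun t ht => mem_centralizer_iff.2 fun s hs => by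
    have hsR : s ∈ R := h.rs_le (hSR hs)
    have h1 : s * t * s⁻¹ * t⁻¹ ∈ T ⊓ S := by
      refine Subgroup.mem_inf.2 ⟨mul_mem (conj_mem_of_mem_normalizer (hM'T (hRM' hsR)) ht)
        (inv_mem ht), ?_⟩
      rw [show s * t * s⁻¹ * t⁻¹ = s * (t * s⁻¹ * t⁻¹) by group]
      exact mul_mem hs (conj_mem_of_mem_normalizer (hMS (hPsM (hTPs ht))) (inv_mem hs))
    rw [inf_eq_bot_of_primes hpr (core_isPGroup p M') (core_isPGroup r M), mem_bot,
      mul_inv_eq_one, mul_inv_eq_iff_eq_mul] at h1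
    exact h1
  have hTX0 : T ≤ X0 := le_inf hTPs hTS
  have hX0A : A ≤ normalizer (X0 : Set X) := norm_inf h.rs_norm (AbelianFixed.norm_centralizer hSA)
  have hCn : ∀ g ∈ M, ∀ y ∈ centralizer (S : Set X), g * y * g⁻¹ ∈ centralizer (S : Set X) :=
    fun g hg y hy => mem_centralizer_iff.2 fun s hs => by
      have hs' := conj_mem_of_mem_normalizer (inv_mem (hMS hg)) hs
      have h1 := mem_centralizer_iff.1 hy _ hs'
      calc s * (g * y * g⁻¹) = g * ((g⁻¹ * s * g⁻¹⁻¹) * y) * g⁻¹ := by group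
        _ = g * (y * (g⁻¹ * s * g⁻¹⁻¹)) * g⁻¹ := by rw [h1]
        _ = g * y * g⁻¹ * s := by group
  have hRsX0 : Rs A G p r ≤ normalizer (X0 : Set X) := by
    intro x hx
    obtain ⟨s, hs, k, hk, rfl⟩ := hMf.pr_struct hpr (h.mid_pr hpr)
      (show x ∈ syl A M r by rw [h.syl_mid' hpr]; exact hx)
    rw [h.syl_mid' hpr, h.syl_mid] at hk
    refine mul_mem (mem_normalizer_of_forall fun y hy => ?_) (mem_normalizer_of_forall fun y hy => ?_)
    · rw [conj_eq_of_commute (mem_centralizer_iff.1 hy.2 s hs)]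
      exact hy
    · refine Subgroup.mem_inf.2 ⟨?_, hCn k (h.rs_le_mid hk.1) y hy.2⟩
      rw [hPs, ← h.mid_inf hpr.symm]
      refine Subgroup.mem_inf.2 ⟨?_, conj_mem_of_mem_normalizer hk.2 (hPsP hy.1)⟩
      exact mul_mem (mul_mem (hRM' (h.rs_le hk.1)) (h.rs_le_mid hy.1))
        (inv_mem (hRM' (h.rs_le hk.1)))
  set X1 := X0 ⊓ normalizer (R : Set X) with hX1
  have hX1Rs : ∀ x ∈ X1, ∀ y ∈ Rs A G p r, x * y = y * x := fun x hx y hy => by
    have h1 : x * y * x⁻¹ * y⁻¹ ∈ X0 ⊓ R := by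
      refine Subgroup.mem_inf.2 ⟨?_, mul_mem (conj_mem_of_mem_normalizer hx.2 (h.rs_le hy))
        (inv_mem (h.rs_le hy))⟩
      rw [show x * y * x⁻¹ * y⁻¹ = x * (y * x⁻¹ * y⁻¹) by group]
      exact mul_mem hx.1 (conj_mem_of_mem_normalizer (hRsX0 hy) (inv_mem hx.1))
    rw [inf_eq_bot_of_primes hpr ((h.syl_pGroup (p := p)).to_le (inf_le_left.trans hPsP))
      h.syl_pGroup, mem_bot, mul_inv_eq_one, mul_inv_eq_iff_eq_mul] at h1
    exact h1
  have hX1A : A ≤ normalizer (X1 : Set X) := norm_inf hX0A (norm_normalizer h.syl_norm)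
  have hX1P : X1 ≤ P := inf_le_left.trans (inf_le_left.trans hPsP)
  have hX1C : X1 ≤ centralizer (R : Set X) := by
    refine h.toSetup.le_of_parts (hX1P.trans h.syl_le) hX1A fun b hb hb1 => ?_
    obtain ⟨e, he, heb, hRe⟩ := (h.two_parts hpr hne).avoid h.toSetup b hb
    refine key (r := r) (q := q) (e := e) h.hq (h.exp_A e he) h.syl_pGroup (h.syl_norm he)
      (norm_inf hX1A (h.toSetup.norm_centralizer_elt hb) he)
      (fun hd => h.cop (hd.trans (card_dvd_of_le h.syl_le))) (inf_le_left.trans inf_le_right)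
      (pr_coprime hpr ((h.syl_pGroup (p := p)).to_le (inf_le_left.trans hX1P)) h.syl_pGroup)
      (h.part_inf hb hb1 he heb (inf_le_left.trans (hX1P.trans h.syl_le)) inf_le_right)
      fun s hs hes z hz => ?_
    exact hX1Rs z hz.1 s (hRe ⟨hs, mem_centralizer_one.2 hes⟩)
  have hC : Ps ⊓ centralizer (R : Set X) ≤ T := by
    set C := Ps ⊓ centralizer (R : Set X) with hCdef
    refine le_sup_right.trans (le_core (p := p) (N := T ⊔ C) (sup_le (core_le p M')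
      (inf_le_left.trans h.rs_le_mid)) ?_ ((h.syl_pGroup (p := p)).to_le
        ((sup_le hTPs inf_le_left).trans hPsP)))
    refine sup_le (fun x hx => mem_normalizer_of_forall fun y hy => ?_) (fun x hx => ?_)
    · obtain ⟨t, ht, c, hc, rfl⟩ := (mem_sup_iff_of_le_normalizer
        ((inf_le_left.trans h.rs_le_mid).trans hM'T)).1 hy
      rw [show x * (t * c) * x⁻¹ = (x * t * x⁻¹) * (x * c * x⁻¹) by group,
        conj_eq_of_commute (mem_centralizer_iff.1 hc.2 x hx)]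
      exact mul_mem (mem_sup_left (conj_mem_of_mem_normalizer (hM'T (hRM' hx)) ht)) (mem_sup_right hc)
    · obtain ⟨t, ht, k, hk, rfl⟩ := hM'f.pr_struct hpr.symm (h.mid_pr hpr.symm)
        (show x ∈ syl A M' p by rw [h.syl_mid' hpr.symm]; exact hx)
      rw [h.syl_mid' hpr.symm, h.syl_mid] at hk
      refine mul_mem (le_normalizer (mem_sup_left ht)) (mem_normalizer_of_forall fun y hy => ?_)
      obtain ⟨t', ht', c, hc, rfl⟩ := (mem_sup_iff_of_le_normalizer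
        ((inf_le_left.trans h.rs_le_mid).trans hM'T)).1 hy
      rw [show k * (t' * c) * k⁻¹ = (k * t' * k⁻¹) * (k * c * k⁻¹) by group]
      refine mul_mem (mem_sup_left (conj_mem_of_mem_normalizer (hM'T (h.rs_le_mid hk.1)) ht'))
        (mem_sup_right (Subgroup.mem_inf.2 ⟨mul_mem (mul_mem hk.1 hc.1) (inv_mem hk.1),
          mem_centralizer_iff.2 fun y hy => ?_⟩))
      have hy' := conj_mem_of_mem_normalizer (inv_mem hk.2) hy
      calc y * (k * c * k⁻¹) = k * ((k⁻¹ * y * k⁻¹⁻¹) * c) * k⁻¹ := by group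
        _ = k * (c * (k⁻¹ * y * k⁻¹⁻¹)) * k⁻¹ := by rw [mem_centralizer_iff.1 hc.2 _ hy']
        _ = k * c * k⁻¹ * y := by group
  have hX0T : X0 = T := by
    refine le_antisymm (fun x hx => ?_) hTX0
    obtain ⟨t, ht, k, hk, rfl⟩ := hM'f.pr_struct hpr.symm (h.mid_pr hpr.symm)
      (show x ∈ syl A M' p by rw [h.syl_mid' hpr.symm]; exact hx.1)
    rw [h.syl_mid] at hk
    have hk1 : k ∈ X1 := Subgroup.mem_inf.2 ⟨by
      have := mul_mem (inv_mem (hTX0 ht)) hx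
      rwa [inv_mul_cancel_left] at this, hk.2⟩
    exact mul_mem ht (hC (Subgroup.mem_inf.2 ⟨hk1.1.1, hX1C hk1⟩))
  have hT1 : T = ⊥ := by
    by_contra hTne
    obtain ⟨u, hu, huN, huPs⟩ := exists_gt_normalizer h.syl_pGroup hPsP hne'
    refine huPs (h.normalizer_in_rs hpr.symm (s := p) (hTPs.trans (hPsP.trans h.syl_le)) hTA
      (core_isPGroup p M') hTne (hRM'.trans hM'T) hu ?_)
    rw [← hX0T]
    exact mem_normalizer_of_forall fun y hy => Subgroup.mem_inf.2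
      ⟨conj_mem_of_mem_normalizer huN hy.1, hCn u (h.syl_le_mid hu) y hy.2⟩
  exact ⟨hT1, hX0T.trans hT1⟩

/-- All pairs permute. -/
theorem rs_eq (hpr : p ≠ r) : Rs A G p r = syl A G r := by
  by_contra hne
  have hne' : Rs A G r p ≠ syl A G p := fun e => hne (h.rs_symm hpr.symm e)
  obtain ⟨hT, hP0⟩ := h.core_eq_bot hpr hne
  obtain ⟨hS, hR0⟩ := h.core_eq_bot hpr.symm hne'
  have hPs : Rs A G r p = ⊥ := le_bot_iff.1 (hP0 ▸ le_inf le_rfl (fun x _ => by
    rw [hS, mem_centralizer_iff]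
    intro y hy
    rw [mem_bot.1 hy, one_mul, mul_one]))
  have hRs : Rs A G p r = ⊥ := le_bot_iff.1 (hR0 ▸ le_inf le_rfl (fun x _ => by
    rw [hT, mem_centralizer_iff]
    intro y hy
    rw [mem_bot.1 hy, one_mul, mul_one]))
  by_cases hp2 : p = 2
  · refine h.two_trivial_false (p := r) (h.syl_ne_bot_of_rs hne')
      ((h.two_parts hpr hne).imp fun a ha => le_bot_iff.1 (hRs ▸ ha)) (Or.inl ?_)
    exact fun hr => hpr (hp2.trans hr.symm)
  · exact h.two_trivial_false (h.syl_ne_bot_of_rs hne)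
      ((h.two_parts hpr.symm hne').imp fun a ha => le_bot_iff.1 (hPs ▸ ha)) (Or.inl hp2)

end Min

end Cfsg.Agent.AbelianFixed
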