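import Cfsg.Agent.Lib.Solvable.Coprime
import Mathlib.GroupTheory.SpecificGroups.Cyclic

/-!
A group of order `q ^ 2` and exponent `q` acting coprimely with abelian centralizers: basic facts.
-/

set_option autoImplicit false

namespace Cfsg.Agent.AbelianFixed

open Subgroup
open scoped commutatorElement
open Cfsg.Agent.CoprimeAct Cfsg.Agent.SolvBasic

universe u v

section Quot

variable {X : Type u} [Group X]

/-- The normalizer of `D`. -/
abbrev QN (D : Subgroup X) : Subgroup X := normalizer (D : Set X)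

/-- The quotient of the normalizer of `D` by `D`. -/
abbrev QT (D : Subgroup X) : Type u := ↥(QN D) ⧸ D.subgroupOf (QN D)

/-- The projection from the normalizer of `D`. -/
abbrev qmk (D : Subgroup X) : ↥(QN D) →* QT D := QuotientGroup.mk' _

/-- The image of `U ⊓ N(D)` in `N(D) / D`. -/
def qimg (D U : Subgroup X) : Subgroup (QT D) := (U.subgroupOf (QN D)).map (qmk D)

theorem mem_qimg {D U : Subgroup X} {x : QT D} :
    x ∈ qimg D U ↔ ∃ g : ↥(QN D), (g : X) ∈ U ∧ qmk D g = x := by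
  rw [qimg, mem_map]; rfl

theorem qmk_eq_one {D : Subgroup X} {g : ↥(QN D)} : qmk D g = 1 ↔ (g : X) ∈ D :=
  (QuotientGroup.eq_one_iff g).trans Iff.rfl

theorem mk_mem_qimg {D U : Subgroup X} (g : ↥(QN D)) (hg : (g : X) ∈ U) : qmk D g ∈ qimg D U :=
  mem_qimg.2 ⟨g, hg, rfl⟩

theorem qimg_mono {D U V : Subgroup X} (h : U ≤ V) : qimg D U ≤ qimg D V := fun x hx => by
  obtain ⟨g, hg, rfl⟩ := mem_qimg.1 hx
  exact mk_mem_qimg g (h hg)

theorem qimg_normalizer {D U V : Subgroup X} (h : U ≤ normalizer (V : Set X)) :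
    qimg D U ≤ normalizer (qimg D V : Set (QT D)) := by
  intro x hx
  obtain ⟨g, hg, rfl⟩ := mem_qimg.1 hx
  refine Subgroup.le_normalizer_map (qmk D) ⟨g, ?_, rfl⟩
  rw [SetLike.mem_coe, Subgroup.mem_normalizer_iff]
  intro z
  exact Subgroup.mem_normalizer_iff.1 (h hg) (z : X)

theorem comap_qimg {D U : Subgroup X} (hD : D ≤ U) :
    (qimg D U).comap (qmk D) = U.subgroupOf (QN D) := by
  rw [qimg, Subgroup.comap_map_eq, QuotientGroup.ker_mk']
  exact sup_eq_left.2 (Subgroup.comap_mono hD)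

theorem card_qimg_dvd [Finite X] {D U : Subgroup X} (hU : U ≤ QN D) :
    Nat.card (qimg D U) ∣ Nat.card U :=
  (card_map_dvd _ _).trans (Nat.card_congr (subgroupOfEquivOfLe hU).toEquiv).dvd

theorem qimg_card_mul [Finite X] {D U : Subgroup X} (hD : D ≤ U) (hU : U ≤ QN D) :
    Nat.card D * Nat.card (qimg D U) = Nat.card U := by
  have hDU : D.subgroupOf (QN D) ≤ U.subgroupOf (QN D) := comap_mono hD
  rw [qimg, ← Subgroup.relIndex_ker (f := qmk D), QuotientGroup.ker_mk',
    ← Nat.card_congr (subgroupOfEquivOfLe (hD.trans hU)).toEquiv,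
    ← Nat.card_congr (subgroupOfEquivOfLe hU).toEquiv]
  rw [← Subgroup.relIndex_bot_left, ← Subgroup.relIndex_bot_left]
  exact Subgroup.relIndex_mul_relIndex _ _ _ bot_le hDU

theorem qimg_comm {D U : Subgroup X} (h : ∀ x ∈ U, ∀ y ∈ U, x * y * x⁻¹ * y⁻¹ ∈ D) :
    ∀ x ∈ qimg D U, ∀ y ∈ qimg D U, x * y = y * x := by
  intro x hx y hy
  obtain ⟨a, ha, rfl⟩ := mem_qimg.1 hx
  obtain ⟨b, hb, rfl⟩ := mem_qimg.1 hy
  rw [← commutatorElement_eq_one_iff_mul_comm, ← map_commutatorElement, qmk_eq_one]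
  rw [commutatorElement_def]
  simpa using h _ ha _ hb

theorem isPGroup_qimg {D U : Subgroup X} {p : ℕ} (h : IsPGroup p U) : IsPGroup p (qimg D U) :=
  (h.comap_subtype (K := QN D)).map _

theorem mem_of_qmk_mem {D U : Subgroup X} (hD : D ≤ U) {g : ↥(QN D)} (h : qmk D g ∈ qimg D U) :
    (g : X) ∈ U := by
  have : g ∈ (qimg D U).comap (qmk D) := h
  rwa [comap_qimg hD] at this

end Quot

variable {X : Type u} [Group X] {q : ℕ} {A G : Subgroup X}

/-- `A` has order `q ^ 2` and exponent `q`, normalizes `G` of order prime to `q`, and the fixed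
points in `G` of each nontrivial element of `A` commute with each other. -/
structure Setup (q : ℕ) (A G : Subgroup X) : Prop where
  hq : q.Prime
  card_A : Nat.card A = q ^ 2
  comm_A : ∀ a ∈ A, ∀ b ∈ A, a * b = b * a
  exp_A : ∀ a ∈ A, a ^ q = 1
  norm : A ≤ normalizer (G : Set X)
  cop : ¬ q ∣ Nat.card G
  ab : ∀ a ∈ A, a ≠ 1 → ∀ x ∈ G, ∀ y ∈ G, a * x = x * a → a * y = y * a → x * y = y * x

theorem normalizer_le_char {U : Subgroup X} (K : Subgroup U) [hK : K.Characteristic] :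
    normalizer (U : Set X) ≤ normalizer (K.map U.subtype : Set X) := by
  intro g hg
  have key : ∀ g ∈ normalizer (U : Set X), ∀ u ∈ K.map U.subtype, g * u * g⁻¹ ∈ K.map U.subtype := by
    rintro g hg _ ⟨u, hu, rfl⟩
    have h := hK.fixed (U.normalizerMonoidHom ⟨g, hg⟩)
    have hu' : u ∈ K := hu
    rw [← h, mem_comap] at hu'
    exact ⟨_, hu', rfl⟩
  rw [mem_normalizer_iff]
  refine fun u => ⟨key g hg u, fun hu => ?_⟩
  have := key g⁻¹ (inv_mem hg) _ hu
  simpa [mul_assoc] using this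

theorem mem_centralizer_one {a x : X} : x ∈ centralizer ({a} : Set X) ↔ a * x = x * a := by
  rw [mem_centralizer_iff]
  exact ⟨fun h => h a rfl, fun h y hy => by rw [Set.mem_singleton_iff.1 hy]; exact h⟩

theorem centralizer_zpowers_eq (a : X) :
    centralizer ((zpowers a : Subgroup X) : Set X) = centralizer {a} := by
  ext x
  rw [mem_centralizer_one, mem_centralizer_iff]
  exact ⟨fun h => h a (mem_zpowers a), fun h y hy => by
    obtain ⟨i, rfl⟩ := mem_zpowers_iff.1 hy
    exact Commute.zpow_left h i⟩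

/-- Elements of `A` normalize centralizers in normalized subgroups. -/
theorem norm_centralizer {U : Subgroup X} (hU : A ≤ normalizer (U : Set X)) :
    A ≤ normalizer (centralizer (U : Set X) : Set X) := fun a ha => by
  rw [mem_normalizer_iff]
  intro x
  rw [mem_centralizer_iff, mem_centralizer_iff]
  constructor
  · intro h y hy
    have := h _ ((mem_normalizer_iff''.1 (hU ha) y).1 hy)
    calc y * (a * x * a⁻¹) = a * ((a⁻¹ * y * a) * x) * a⁻¹ := by group
      _ = a * (x * (a⁻¹ * y * a)) * a⁻¹ := by rw [this]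
      _ = a * x * a⁻¹ * y := by group
  · intro h y hy
    have := h _ ((mem_normalizer_iff.1 (hU ha) y).1 hy)
    calc y * x = a⁻¹ * ((a * y * a⁻¹) * (a * x * a⁻¹)) * a := by group
      _ = a⁻¹ * ((a * x * a⁻¹) * (a * y * a⁻¹)) * a := by rw [this]
      _ = x * y := by group

theorem norm_normalizer {U : Subgroup X} (hU : A ≤ normalizer (U : Set X)) :
    A ≤ normalizer (normalizer (U : Set X) : Set X) :=
  hU.trans le_normalizer

theorem norm_inf {U V : Subgroup X} (hU : A ≤ normalizer (U : Set X))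
    (hV : A ≤ normalizer (V : Set X)) : A ≤ normalizer ((U ⊓ V : Subgroup X) : Set X) :=
  fun a ha => by
  rw [mem_normalizer_iff]
  intro x
  exact and_congr (mem_normalizer_iff.1 (hU ha) x) (mem_normalizer_iff.1 (hV ha) x)

theorem norm_sup {U V : Subgroup X} (hU : A ≤ normalizer (U : Set X))
    (hV : A ≤ normalizer (V : Set X)) : A ≤ normalizer ((U ⊔ V : Subgroup X) : Set X) :=
  fun a ha => by
  rw [mem_normalizer_iff_conjSmul, Subgroup.smul_sup, mem_normalizer_iff_conjSmul.1 (hU ha),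
    mem_normalizer_iff_conjSmul.1 (hV ha)]

theorem norm_closure {S : Set X} [Finite X]
    (h : ∀ a ∈ A, ∀ s ∈ S, a * s * a⁻¹ ∈ closure S) : A ≤ normalizer (closure S : Set X) :=
  fun a ha => by
  have hle : (closure S).map (MulAut.conj a).toMonoidHom ≤ closure S := by
    rw [MonoidHom.map_closure, closure_le]
    rintro _ ⟨s, hs, rfl⟩
    exact h a ha s hs
  rw [mem_normalizer_iff_conjSmul]
  refine Subgroup.eq_of_le_of_card_ge hle ?_
  rw [card_conjSmul]

namespace Setup

variable (h : Setup q A G)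
include h

theorem norm_centralizer_elt {a : X} (ha : a ∈ A) :
    A ≤ normalizer (centralizer ({a} : Set X) : Set X) := by
  rw [← centralizer_zpowers_eq]
  refine AbelianFixed.norm_centralizer fun b hb => ?_
  rw [mem_normalizer_iff]
  intro x
  constructor
  · intro hx
    obtain ⟨i, rfl⟩ := mem_zpowers_iff.1 hx
    refine mem_zpowers_iff.2 ⟨i, ?_⟩
    rw [← conj_zpow, conj_eq_of_commute (h.comm_A b hb a ha)]
  · intro hx
    obtain ⟨i, hi⟩ := mem_zpowers_iff.1 hx
    refine mem_zpowers_iff.2 ⟨i, ?_⟩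
    have h2 : b * a ^ i * b⁻¹ = a ^ i :=
      conj_eq_of_commute (h.comm_A b hb _ (zpow_mem ha i))
    exact mul_left_cancel (mul_right_cancel (h2.trans hi))

theorem mono {U : Subgroup X} [Finite X] (hU : U ≤ G) (hA : A ≤ normalizer (U : Set X)) :
    Setup q A U :=
  ⟨h.hq, h.card_A, h.comm_A, h.exp_A, hA, fun hd => h.cop (hd.trans (card_dvd_of_le hU)),
    fun a ha ha1 x hx y hy => h.ab a ha ha1 x (hU hx) y (hU hy)⟩

theorem solA : Group.IsSolvable A :=
  Group.isSolvable_of_comm fun a b => Subtype.ext (h.comm_A a a.2 b b.2)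

theorem isCommA : IsMulCommutative A := ⟨⟨fun a b => Subtype.ext (h.comm_A a a.2 b b.2)⟩⟩

theorem not_cyclic : ¬ IsCyclic A := fun hc => by
  have := hc
  have hd : Monoid.exponent A ∣ q :=
    Monoid.exponent_dvd_of_forall_pow_eq_one fun a => Subtype.ext (h.exp_A a a.2)
  rw [IsCyclic.exponent_eq_card, h.card_A] at hd
  have hlt : q < q ^ 2 := by
    rw [pow_two]; exact lt_mul_self h.hq.one_lt
  exact absurd (Nat.le_of_dvd h.hq.pos hd) (not_le.2 hlt)

theorem orderOf_eq {a : X} (ha : a ∈ A) (ha1 : a ≠ 1) : orderOf a = q :=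
  haveI := Fact.mk h.hq
  orderOf_eq_prime (h.exp_A a ha) ha1

theorem cop_of_le [Finite X] {U : Subgroup X} (hU : U ≤ G) :
    (Nat.card A).Coprime (Nat.card U) := by
  rw [h.card_A]
  exact ((h.hq.coprime_iff_not_dvd).2 fun hd => h.cop (hd.trans (card_dvd_of_le hU))).pow_left 2

theorem cop_zpowers [Finite X] {a : X} (ha : a ∈ A) {U : Subgroup X} (hU : U ≤ G) :
    (Nat.card (zpowers a)).Coprime (Nat.card U) :=
  (h.cop_of_le hU).coprime_dvd_left (card_dvd_of_le (zpowers_le.2 ha))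

omit h in
theorem solZ {a : X} : Group.IsSolvable (zpowers a) :=
  Group.isSolvable_of_comm fun x y => mul_comm' x y

theorem mem_zpowers_symm [Finite X] {a b : X} (ha : a ∈ A) (hb1 : b ≠ 1)
    (hb : b ∈ zpowers a) : a ∈ zpowers b := by
  have ha1 : a ≠ 1 := by
    rintro rfl
    rw [zpowers_one_eq_bot, mem_bot] at hb
    exact hb1 hb
  have hle : zpowers b ≤ zpowers a := zpowers_le.2 hb
  have heq : zpowers b = zpowers a := by
    refine Subgroup.eq_of_le_of_card_ge hle ?_
    rw [Nat.card_zpowers, Nat.card_zpowers, h.orderOf_eq ha ha1,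
      h.orderOf_eq (zpowers_le.2 ha hb) hb1]
  rw [heq]
  exact mem_zpowers a

theorem commute_of_zpowers [Finite X] {a b x : X} (hb : b ∈ zpowers a) (hx : a * x = x * a) :
    b * x = x * b := by
  have := h
  obtain ⟨i, rfl⟩ := mem_zpowers_iff.1 hb
  exact Commute.zpow_left hx i

/-- Two elements of `A` not in one cyclic subgroup generate `A`. -/
theorem sup_zpowers [Finite X] {a b : X} (ha : a ∈ A) (ha1 : a ≠ 1) (hb : b ∈ A)
    (hab : b ∉ zpowers a) : zpowers a ⊔ zpowers b = A := by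
  have hle : zpowers a ⊔ zpowers b ≤ A := sup_le (zpowers_le.2 ha) (zpowers_le.2 hb)
  refine Subgroup.eq_of_le_of_card_ge hle ?_
  obtain ⟨i, hi, hie⟩ := (Nat.dvd_prime_pow h.hq).1 (h.card_A ▸ card_dvd_of_le hle)
  have hlt : Nat.card (zpowers a) < Nat.card (zpowers a ⊔ zpowers b : Subgroup X) := by
    by_contra hcon
    have := Subgroup.eq_of_le_of_card_ge (le_sup_left : zpowers a ≤ zpowers a ⊔ zpowers b)
      (not_lt.1 hcon)
    exact hab (this ▸ mem_sup_right (mem_zpowers b))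
  rw [Nat.card_zpowers, h.orderOf_eq ha ha1, hie] at hlt
  have hi2 : i = 2 := by
    by_contra hne
    have : i ≤ 1 := by omega
    exact absurd hlt (not_lt.2 ((pow_le_pow_right₀ h.hq.one_lt.le this).trans (pow_one q).le))
  rw [h.card_A, hie, hi2]

theorem mem_centralizer_A [Finite X] {a b x : X} (ha : a ∈ A) (ha1 : a ≠ 1) (hb : b ∈ A)
    (hab : b ∉ zpowers a) (h1 : a * x = x * a) (h2 : b * x = x * b) :
    x ∈ centralizer (A : Set X) := by
  rw [← h.sup_zpowers ha ha1 hb hab, mem_centralizer_iff]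
  intro y hy
  have hsub : zpowers a ⊔ zpowers b ≤ centralizer ({x} : Set X) :=
    sup_le (zpowers_le.2 (mem_centralizer_one.2 h1.symm)) (zpowers_le.2 (mem_centralizer_one.2 h2.symm))
  exact (mem_centralizer_one.1 (hsub hy)).symm

theorem exists_not_mem [Finite X] (a : X) : ∃ b ∈ A, b ∉ zpowers a ∧ b ≠ 1 := by
  by_contra hcon
  push Not at hcon
  refine h.not_cyclic ?_
  have hle : A ≤ zpowers a := fun b hb => by
    by_contra hba
    exact hba ((hcon b hb hba) ▸ one_mem _)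
  exact isCyclic_of_injective (Subgroup.inclusion hle) (Subgroup.inclusion_injective hle)

/-- A third line. -/
theorem exists_third [Finite X] {a b : X} (ha : a ∈ A) (ha1 : a ≠ 1) (hb : b ∈ A)
    (hab : b ∉ zpowers a) :
    a * b ∈ A ∧ a * b ≠ 1 ∧ a * b ∉ zpowers a ∧ a * b ∉ zpowers b := by
  refine ⟨mul_mem ha hb, fun h1 => hab ?_, fun h1 => hab ?_, fun h1 => hab ?_⟩
  · rw [show b = a⁻¹ from eq_inv_of_mul_eq_one_right h1]
    exact inv_mem (mem_zpowers a)
  · have := mul_mem (inv_mem (mem_zpowers a)) h1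
    rwa [inv_mul_cancel_left] at this
  · have h2 : a ∈ zpowers b := by
      have := mul_mem h1 (inv_mem (mem_zpowers b))
      rwa [mul_inv_cancel_right] at this
    exact h.mem_zpowers_symm hb ha1 h2

/-- A subgroup is generated by its parts. -/
theorem le_of_parts [Finite X] {U V : Subgroup X} (hU : U ≤ G) (hA : A ≤ normalizer (U : Set X))
    (hV : ∀ a ∈ A, a ≠ 1 → U ⊓ centralizer ({a} : Set X) ≤ V) : U ≤ V := by
  have := h.isCommA
  conv_lhs => rw [← generated_by_centralizers h.not_cyclic hA (h.cop_of_le hU)]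
  exact iSup₂_le fun a ha => hV a ha.1 ha.2

/-- The common fixed points are central. -/
theorem fix_central [Finite X] {x : X} (hx : x ∈ G) (hxA : x ∈ centralizer (A : Set X)) :
    G ≤ centralizer ({x} : Set X) := by
  refine h.le_of_parts le_rfl h.norm fun a ha ha1 y hy => ?_
  exact mem_centralizer_one.2 (h.ab a ha ha1 x hx y hy.1 (mem_centralizer_iff.1 hxA a ha)
    (mem_centralizer_one.1 hy.2))

/-- Fixed points lift. -/
theorem exists_fixed [Finite X] {X' : Type v} [Group X'] (f : X →* X') {B : Subgroup X}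
    (hB : B ≤ A) {U : Subgroup X} (hU : U ≤ G) (hBU : B ≤ normalizer (U : Set X)) {k : X}
    (hk : k ∈ U) (hfix : ∀ b ∈ B, f b * f k = f k * f b) :
    ∃ c ∈ U, c ∈ centralizer (B : Set X) ∧ f c = f k := by
  obtain ⟨c, hc, hkc⟩ := exists_mem_centralizer (A := B) (K := U) hBU
    ((h.cop_of_le hU).coprime_dvd_left (card_dvd_of_le hB))
    (Or.inl (Group.isSolvable_of_comm fun a b => Subtype.ext (h.comm_A a (hB a.2) b (hB b.2))))
    (N := U ⊓ f.ker) inf_le_left
    (fun u hu => by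
      rw [mem_normalizer_iff]
      exact fun z => and_congr (mem_normalizer_iff.1 (le_normalizer hu) z)
        (mem_normalizer_iff.1 (Subgroup.le_normalizer_of_normal (H := f.ker) (K := U) hu) z))
    (fun b hb => by
      rw [mem_normalizer_iff]
      exact fun z => and_congr (mem_normalizer_iff.1 (hBU hb) z)
        (mem_normalizer_iff.1 (Subgroup.le_normalizer_of_normal (H := f.ker) (K := B) hb) z))
    hk
    (fun b hb => Subgroup.mem_inf.2 ⟨mul_mem (conj_mem_of_mem_normalizer (hBU hb) hk) (inv_mem hk), by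
      rw [MonoidHom.mem_ker, map_mul, map_mul, map_mul, map_inv, map_inv,
        hfix b hb, mul_inv_cancel_right, mul_inv_cancel]⟩)
  refine ⟨c, hc.1, hc.2, ?_⟩
  have h1 := (Subgroup.mem_inf.1 hkc).2
  rw [MonoidHom.mem_ker, map_mul, map_inv, inv_mul_eq_one] at h1
  exact h1.symm

theorem map [Finite X] {X' : Type v} [Group X'] (f : X →* X') (hf : A ⊓ f.ker = ⊥) :
    Setup q (A.map f) (G.map f) := by
  refine ⟨h.hq, by rw [card_map_of_inf_ker_eq_bot f hf, h.card_A], ?_, ?_, ?_,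
    fun hd => h.cop (hd.trans (card_map_dvd _ _)), ?_⟩
  · rintro _ ⟨a, ha, rfl⟩ _ ⟨b, hb, rfl⟩
    rw [← map_mul, h.comm_A a ha b hb, map_mul]
  · rintro _ ⟨a, ha, rfl⟩
    rw [← map_pow, h.exp_A a ha, map_one]
  · rintro _ ⟨a, ha, rfl⟩
    exact Subgroup.le_normalizer_map f ⟨a, h.norm ha, rfl⟩
  · rintro _ ⟨a, ha, rfl⟩ ha1 _ ⟨x, hx, rfl⟩ _ ⟨y, hy, rfl⟩ hax hay
    have ha1' : a ≠ 1 := fun e => ha1 (by rw [e, map_one])
    have hlift : ∀ z ∈ G, f a * f z = f z * f a → ∃ c ∈ G, a * c = c * a ∧ f c = f z := by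
      intro z hz hcz
      obtain ⟨c, hc, hc2, hc3⟩ := h.exists_fixed f (zpowers_le.2 ha) le_rfl
        ((zpowers_le.2 ha).trans h.norm) hz (fun b hb => by
          obtain ⟨i, rfl⟩ := mem_zpowers_iff.1 hb
          rw [map_zpow]
          exact Commute.zpow_left hcz i)
      exact ⟨c, hc, mem_centralizer_iff.1 hc2 a (mem_zpowers a), hc3⟩
    obtain ⟨c, hc, hac, hcx⟩ := hlift x hx hax
    obtain ⟨d, hd, had, hdy⟩ := hlift y hy hay
    rw [← hcx, ← hdy, ← map_mul, h.ab a ha ha1' c hc d hd hac had, map_mul]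

theorem subgroupOf [Finite X] {Y : Subgroup X} (hA : A ≤ Y) (hG : G ≤ Y) :
    Setup q (A.subgroupOf Y) (G.subgroupOf Y) := by
  refine ⟨h.hq, by rw [Nat.card_congr (subgroupOfEquivOfLe hA).toEquiv, h.card_A],
    fun a ha b hb => Subtype.ext (h.comm_A _ ha _ hb),
    fun a ha => Subtype.ext (by simpa using h.exp_A _ ha),
    fun a ha => ?_, fun hd => h.cop (by rwa [Nat.card_congr (subgroupOfEquivOfLe hG).toEquiv] at hd),
    fun a ha ha1 x hx y hy hax hay => Subtype.ext (h.ab _ ha (fun e => ha1 (Subtype.ext e)) _ hx _ hy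
      (congrArg Subtype.val hax) (congrArg Subtype.val hay))⟩
  rw [mem_normalizer_iff]
  intro z
  exact mem_normalizer_iff.1 (h.norm ha) (z : X)

/-- Passage to a section. -/
theorem qimg [Finite X] {D : Subgroup X} (hD : D ≤ G) (hAD : A ≤ normalizer (D : Set X))
    (hGD : G ≤ normalizer (D : Set X)) :
    Setup q (AbelianFixed.qimg D A) (AbelianFixed.qimg D G) := by
  refine (h.subgroupOf (Y := QN D) hAD hGD).map (qmk D) ?_
  rw [QuotientGroup.ker_mk', eq_bot_iff]
  intro x hx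
  have h1 : (x : X) ∈ A ⊓ D := ⟨hx.1, hx.2⟩
  rw [(disjoint_of_coprime_natCard (h.cop_of_le hD)).eq_bot, mem_bot] at h1
  exact mem_bot.2 (Subtype.ext h1)

/-- Fixed points lift to sections. -/
theorem exists_fixed_qimg [Finite X] {D U : Subgroup X} (hU : U ≤ G) (hUN : U ≤ QN D)
    (hAD : A ≤ normalizer (D : Set X)) (hGD : G ≤ normalizer (D : Set X)) {B : Subgroup X}
    (hB : B ≤ A) (hBU : B ≤ normalizer (U : Set X)) {k : ↥(QN D)} (hk : (k : X) ∈ U)
    (hfix : ∀ b : ↥(QN D), (b : X) ∈ B → qmk D b * qmk D k = qmk D k * qmk D b) :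
    ∃ c : ↥(QN D), (c : X) ∈ U ∧ (c : X) ∈ centralizer (B : Set X) ∧ qmk D c = qmk D k := by
  have := hUN
  obtain ⟨c, hc, hc2, hc3⟩ := (h.subgroupOf (Y := QN D) hAD hGD).exists_fixed (qmk D)
    (B := B.subgroupOf (QN D)) (comap_mono hB) (U := U.subgroupOf (QN D)) (comap_mono hU)
    (fun b hb => by
      rw [mem_normalizer_iff]
      exact fun z => mem_normalizer_iff.1 (hBU hb) (z : X))
    hk hfix
  refine ⟨c, hc, ?_, hc3⟩
  rw [mem_centralizer_iff] at hc2 ⊢
  intro b hb
  exact congrArg Subtype.val (hc2 ⟨b, hAD (hB hb)⟩ hb)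

end Setup

/-- The fixed-point-free case. -/
structure Fpf (q : ℕ) (A G : Subgroup X) : Prop extends Setup q A G where
  fpf : G ⊓ centralizer (A : Set X) = ⊥

namespace Fpf

variable (h : Fpf q A G)
include h

theorem mono {U : Subgroup X} [Finite X] (hU : U ≤ G) (hA : A ≤ normalizer (U : Set X)) :
    Fpf q A U :=
  ⟨h.toSetup.mono hU hA, eq_bot_iff.2 ((inf_le_inf_right _ hU).trans h.fpf.le)⟩

theorem eq_one [Finite X] {a b x : X} (ha : a ∈ A) (ha1 : a ≠ 1) (hb : b ∈ A)
    (hab : b ∉ zpowers a) (hx : x ∈ G) (h1 : a * x = x * a) (h2 : b * x = x * b) : x = 1 :=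
  mem_bot.1 (h.fpf.le ⟨hx, h.toSetup.mem_centralizer_A ha ha1 hb hab h1 h2⟩)

/-- `b` is fixed-point-free on the part of `a`. -/
theorem part_inf [Finite X] {a b : X} (ha : a ∈ A) (ha1 : a ≠ 1) (hb : b ∈ A)
    (hab : b ∉ zpowers a) {U : Subgroup X} (hU : U ≤ G)
    (hUa : U ≤ centralizer ({a} : Set X)) : U ⊓ centralizer ({b} : Set X) = ⊥ :=
  eq_bot_iff.2 fun _ hx => mem_bot.2 <| h.eq_one ha ha1 hb hab (hU hx.1)
    (mem_centralizer_one.1 (hUa hx.1)) (mem_centralizer_one.1 hx.2)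

theorem qimg [Finite X] {D : Subgroup X} (hD : D ≤ G) (hAD : A ≤ normalizer (D : Set X))
    (hGD : G ≤ normalizer (D : Set X)) :
    Fpf q (AbelianFixed.qimg D A) (AbelianFixed.qimg D G) := by
  refine ⟨h.toSetup.qimg hD hAD hGD, eq_bot_iff.2 ?_⟩
  rintro x ⟨hx, hxA⟩
  obtain ⟨k, hk, rfl⟩ := mem_qimg.1 hx
  obtain ⟨c, hc, hc2, hc3⟩ := h.toSetup.exists_fixed_qimg le_rfl hGD hAD hGD le_rfl h.norm hk
    (fun b hb => mem_centralizer_iff.1 hxA _ (mk_mem_qimg b hb))
  have h1 : (c : X) = 1 := mem_bot.1 (h.fpf.le ⟨hc, hc2⟩)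
  rw [mem_bot, ← hc3, show c = 1 from Subtype.ext h1, map_one]

end Fpf

end Cfsg.Agent.AbelianFixed
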