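import Cfsg.Agent.Lib.AbelianFixed.Setup
import Cfsg.Agent.Lib.FGBasics.InvariantHall
import Cfsg.Agent.Lib.Solvable.Fitting
import Cfsg.Agent.Lib.Solvable.Criteria
import Cfsg.Prelude.Def_Solvable

/-!
Invariant Sylow subgroups and two-prime subgroups.
-/

set_option autoImplicit false

namespace Cfsg.Agent.AbelianFixed

open Subgroup
open Cfsg.Agent.CoprimeAct Cfsg.Agent.SolvBasic

universe u

variable {X : Type u} [Group X]

/-- The join of the invariant `p`-subgroups of `G`. -/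
def syl (A G : Subgroup X) (p : ℕ) : Subgroup X :=
  sSup {U | U ≤ G ∧ A ≤ normalizer (U : Set X) ∧ IsPGroup p U}

/-- The largest normal `p`-subgroup of `H`. -/
def core (p : ℕ) (H : Subgroup X) : Subgroup X := (Cfsg.pCore p H).map H.subtype

/-- `H` is a `{p, r}`-group. -/
def PR (p r : ℕ) (H : Subgroup X) : Prop :=
  ∀ s : ℕ, s.Prime → s ∣ Nat.card H → s = p ∨ s = r

theorem PR.symm {p r : ℕ} {H : Subgroup X} (h : PR p r H) : PR r p H :=
  fun s hs hd => (h s hs hd).symm

theorem PR.mono [Finite X] {p r : ℕ} {H U : Subgroup X} (h : PR p r H) (hU : U ≤ H) : PR p r U :=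
  fun s hs hd => h s hs (hd.trans (card_dvd_of_le hU))

theorem core_le (p : ℕ) (H : Subgroup X) : core p H ≤ H := map_subtype_le _

theorem core_isPGroup (p : ℕ) (H : Subgroup X) : IsPGroup p (core p H) :=
  (FittingCores.pCore_isPGroup p).map _

theorem normalizer_le_core [Finite X] (p : ℕ) (H : Subgroup X) :
    normalizer (H : Set X) ≤ normalizer (core p H : Set X) :=
  normalizer_le_char (hK := FittingCores.pCore_characteristic p) _

theorem le_normalizer_core [Finite X] (p : ℕ) (H : Subgroup X) :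
    H ≤ normalizer (core p H : Set X) :=
  le_normalizer.trans (normalizer_le_core p H)

theorem le_core {p : ℕ} {H N : Subgroup X} (hN : N ≤ H) (hn : H ≤ normalizer (N : Set X))
    (hp : IsPGroup p N) : N ≤ core p H := fun x hx =>
  ⟨⟨x, hN hx⟩, FittingCores.le_pCore (N := N.subgroupOf H)
    (normal_subgroupOf_of_le_normalizer hn) hp.comap_subtype hx, rfl⟩

variable {q : ℕ} {A G : Subgroup X} [Finite X]

theorem norm_core {p : ℕ} {H : Subgroup X} (hA : A ≤ normalizer (H : Set X)) :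
    A ≤ normalizer (core p H : Set X) :=
  hA.trans (normalizer_le_core p H)

theorem inf_eq_bot_of_primes {p r : ℕ} [Fact p.Prime] [Fact r.Prime] (hpr : p ≠ r)
    {U V : Subgroup X} (hU : IsPGroup p U) (hV : IsPGroup r V) : U ⊓ V = ⊥ :=
  (IsPGroup.disjoint_of_ne p r hpr U V hU hV).eq_bot

theorem pr_coprime {p r : ℕ} [Fact p.Prime] [Fact r.Prime] (hpr : p ≠ r)
    {U V : Subgroup X} (hU : IsPGroup p U) (hV : IsPGroup r V) :
    (Nat.card U).Coprime (Nat.card V) :=
  IsPGroup.coprime_card_of_ne p r hpr U V hU hV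

theorem eq_pow_factorization_mul {n p r : ℕ} (hn : n ≠ 0) (hp : p.Prime) (hr : r.Prime)
    (hpr : p ≠ r) (h : ∀ s : ℕ, s.Prime → s ∣ n → s = p ∨ s = r) :
    n = p ^ n.factorization p * r ^ n.factorization r := by
  refine Nat.eq_of_factorization_eq hn ?_ fun s => ?_
  · exact mul_ne_zero (pow_ne_zero _ hp.ne_zero) (pow_ne_zero _ hr.ne_zero)
  rw [Nat.factorization_mul (pow_ne_zero _ hp.ne_zero) (pow_ne_zero _ hr.ne_zero),
    hp.factorization_pow, hr.factorization_pow, Finsupp.add_apply,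
    Finsupp.single_apply, Finsupp.single_apply]
  by_cases hsp : p = s
  · subst hsp
    rw [if_pos rfl, if_neg hpr.symm, add_zero]
  by_cases hsr : r = s
  · subst hsr
    rw [if_neg hsp, if_pos rfl, zero_add]
  rw [if_neg hsp, if_neg hsr, add_zero, Nat.factorization_eq_zero_iff]
  by_contra hcon
  push Not at hcon
  rcases h s hcon.1 hcon.2.1 with rfl | rfl
  · exact hsp rfl
  · exact hsr rfl

namespace Fpf

variable (h : Fpf q A G)
include h

theorem exists_syl (p : ℕ) [Fact p.Prime] :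
    ∃ P : Subgroup X, P ≤ G ∧ A ≤ normalizer (P : Set X) ∧ IsPGroup p P ∧
      Nat.card P = p ^ (Nat.card G).factorization p ∧
      ∀ U : Subgroup X, U ≤ G → A ≤ normalizer (U : Set X) → IsPGroup p U → U ≤ P := by
  obtain ⟨P, hP⟩ := exists_invariant_sylow h.norm (h.cop_of_le le_rfl) (Or.inl h.solA) p
  refine ⟨(P : Subgroup G).map G.subtype, map_subtype_le _, hP, P.isPGroup'.map _,
    card_map_sylow P, fun U hU hUA hUp => ?_⟩
  obtain ⟨Q, hUQ, hQ⟩ := exists_invariant_sylow_ge h.norm (h.cop_of_le le_rfl) (Or.inl h.solA)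
    hU hUp hUA
  obtain ⟨c, hc, hcQ⟩ := invariant_sylow_conj h.norm (h.cop_of_le le_rfl) (Or.inl h.solA) P Q hP hQ
  have hc1 : (c : X) ∈ (⊥ : Subgroup X) := h.fpf.le ⟨c.2, hc⟩
  rw [mem_bot] at hc1
  rw [show c = 1 from Subtype.ext hc1, map_one, one_smul] at hcQ
  exact hcQ ▸ hUQ

theorem syl_spec (p : ℕ) [Fact p.Prime] :
    syl A G p ≤ G ∧ A ≤ normalizer (syl A G p : Set X) ∧ IsPGroup p (syl A G p) ∧
      Nat.card (syl A G p) = p ^ (Nat.card G).factorization p ∧
      ∀ U : Subgroup X, U ≤ G → A ≤ normalizer (U : Set X) → IsPGroup p U → U ≤ syl A G p := by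
  obtain ⟨P, hPG, hPA, hPp, hPc, hmax⟩ := h.exists_syl p
  have heq : syl A G p = P :=
    le_antisymm (sSup_le fun U hU => hmax U hU.1 hU.2.1 hU.2.2)
      (le_sSup ⟨hPG, hPA, hPp⟩)
  rw [heq]
  exact ⟨hPG, hPA, hPp, hPc, hmax⟩

variable {p r : ℕ} [Fact p.Prime] [Fact r.Prime]

theorem syl_le : syl A G p ≤ G := (h.syl_spec p).1

theorem syl_norm : A ≤ normalizer (syl A G p : Set X) := (h.syl_spec p).2.1

theorem syl_pGroup : IsPGroup p (syl A G p) := (h.syl_spec p).2.2.1

theorem syl_card : Nat.card (syl A G p) = p ^ (Nat.card G).factorization p := (h.syl_spec p).2.2.2.1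

theorem le_syl {U : Subgroup X} (hU : U ≤ G) (hA : A ≤ normalizer (U : Set X))
    (hp : IsPGroup p U) : U ≤ syl A G p := (h.syl_spec p).2.2.2.2 U hU hA hp

theorem syl_inf {H : Subgroup X} (hH : H ≤ G) (hA : A ≤ normalizer (H : Set X)) :
    H ⊓ syl A G p = syl A H p := by
  refine le_antisymm ((h.mono hH hA).le_syl inf_le_left (norm_inf hA h.syl_norm)
    (h.syl_pGroup.to_le inf_le_right)) (le_inf (h.mono hH hA).syl_le ?_)
  exact h.le_syl ((h.mono hH hA).syl_le.trans hH) (h.mono hH hA).syl_norm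
    (h.mono hH hA).syl_pGroup

theorem syl_mono {H : Subgroup X} (hH : H ≤ G) (hA : A ≤ normalizer (H : Set X)) :
    syl A H p ≤ syl A G p :=
  (h.syl_inf hH hA).ge.trans inf_le_right

theorem syl_ne_bot (hd : p ∣ Nat.card G) : syl A G p ≠ ⊥ := fun hb => by
  have hc := h.syl_card (p := p)
  rw [hb, card_bot] at hc
  have hz := (Nat.pow_eq_one.1 hc.symm).resolve_left (Fact.out : p.Prime).ne_one
  exact (Nat.Prime.factorization_pos_of_dvd Fact.out Nat.card_pos.ne' hd).ne' hz

theorem card_pr (hpr : p ≠ r) (hG : PR p r G) :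
    Nat.card G = Nat.card (syl A G p) * Nat.card (syl A G r) := by
  rw [h.syl_card, h.syl_card]
  exact eq_pow_factorization_mul Nat.card_pos.ne' Fact.out Fact.out hpr hG

theorem exists_mul (hpr : p ≠ r) (hG : PR p r G) {x : X} (hx : x ∈ G) :
    ∃ u ∈ syl A G p, ∃ v ∈ syl A G r, x = u * v := by
  let f : ↥(syl A G p) × ↥(syl A G r) → ↥G := fun t =>
    ⟨t.1 * t.2, mul_mem (h.syl_le t.1.2) (h.syl_le t.2.2)⟩
  have hinj : Function.Injective f := by
    rintro ⟨a, b⟩ ⟨c, d⟩ heq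
    have h1 : (a : X) * b = c * d := congrArg Subtype.val heq
    have h2 : (c : X)⁻¹ * a = d * (b : X)⁻¹ := by
      rw [eq_mul_inv_iff_mul_eq, mul_assoc, h1, inv_mul_cancel_left]
    have h3 : (c : X)⁻¹ * a ∈ syl A G p ⊓ syl A G r :=
      Subgroup.mem_inf.2 ⟨mul_mem (inv_mem c.2) a.2, h2 ▸ mul_mem d.2 (inv_mem b.2)⟩
    rw [inf_eq_bot_of_primes hpr h.syl_pGroup h.syl_pGroup, mem_bot, inv_mul_eq_one] at h3
    rw [h3, mul_right_inj] at h1
    exact Prod.ext (Subtype.ext h3.symm) (Subtype.ext h1)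
  have hcard : Nat.card (↥(syl A G p) × ↥(syl A G r)) = Nat.card G := by
    rw [Nat.card_prod, h.card_pr hpr hG]
  obtain ⟨⟨a, b⟩, hab⟩ := ((Nat.bijective_iff_injective_and_card f).2 ⟨hinj, hcard⟩).2 ⟨x, hx⟩
  exact ⟨a, a.2, b, b.2, (congrArg Subtype.val hab).symm⟩

theorem eq_sup (hpr : p ≠ r) (hG : PR p r G) : G = syl A G p ⊔ syl A G r := by
  refine le_antisymm (fun x hx => ?_) (sup_le h.syl_le h.syl_le)
  obtain ⟨u, hu, v, hv, rfl⟩ := h.exists_mul hpr hG hx
  exact mul_mem (mem_sup_left hu) (mem_sup_right hv)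

theorem solvable_pr (hpr : p ≠ r) (hG : PR p r G) : Group.IsSolvable G :=
  Cfsg.Agent.Char.isSolvable_of_card_pq p r Fact.out Fact.out (Nat.card G) G rfl
    ⟨_, _, eq_pow_factorization_mul Nat.card_pos.ne' Fact.out Fact.out hpr hG⟩

/-- Invariant Hall subgroups for two primes. -/
theorem hall_pair (hpr : p ≠ r) {H : Subgroup X} (hH : H ≤ G) (hA : A ≤ normalizer (H : Set X))
    (hsol : Group.IsSolvable H) :
    ∃ L : Subgroup X, L ≤ H ∧ A ≤ normalizer (L : Set X) ∧ PR p r L ∧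
      syl A L p = syl A H p ∧ syl A L r = syl A H r := by
  have hp : p.Prime := Fact.out
  have hr : r.Prime := Fact.out
  set m := p ^ (Nat.card H).factorization p * r ^ (Nat.card H).factorization r with hm
  have hdvd : m ∣ Nat.card H :=
    ((Nat.coprime_primes hp hr).2 hpr).pow _ _ |>.mul_dvd_of_dvd_of_dvd
      (Nat.ordProj_dvd _ _) (Nat.ordProj_dvd _ _)
  obtain ⟨n, hn⟩ := hdvd
  have hn0 : n ≠ 0 := by rintro rfl; rw [mul_zero] at hn; exact Nat.card_pos.ne' hn
  have hfac : ∀ s : ℕ, s = p ∨ s = r → ¬ s ∣ n := by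
    intro s hs hsn
    have h1 : s.Prime := by rcases hs with rfl | rfl <;> assumption
    have h2 : m.factorization s = (Nat.card H).factorization s := by
      rw [hm, Nat.factorization_mul (pow_ne_zero _ hp.ne_zero) (pow_ne_zero _ hr.ne_zero),
        hp.factorization_pow, hr.factorization_pow, Finsupp.add_apply, Finsupp.single_apply,
        Finsupp.single_apply]
      rcases hs with rfl | rfl
      · rw [if_pos rfl, if_neg hpr.symm, add_zero]
      · rw [if_neg hpr, if_pos rfl, zero_add]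
    have h3 : (Nat.card H).factorization s = m.factorization s + n.factorization s := by
      rw [hn, Nat.factorization_mul (mul_ne_zero (pow_ne_zero _ hp.ne_zero) (pow_ne_zero _ hr.ne_zero)) hn0,
        Finsupp.add_apply]
    have h4 := Nat.Prime.factorization_pos_of_dvd h1 hn0 hsn
    omega
  have hmn : m.Coprime n := Nat.Coprime.mul_left
    ((hp.coprime_iff_not_dvd.2 (hfac p (Or.inl rfl))).pow_left _)
    ((hr.coprime_iff_not_dvd.2 (hfac r (Or.inr rfl))).pow_left _)
  obtain ⟨⟨L, hLH, hLc, hLA⟩, -⟩ :=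
    InvariantHall.exists_and_conj hA (h.cop_of_le hH) hsol hn hmn
  have hPR : PR p r L := fun s hs hd => by
    rw [hLc, hm] at hd
    rcases (Nat.Prime.dvd_mul hs).1 hd with h1 | h1
    · exact Or.inl ((Nat.prime_dvd_prime_iff_eq hs hp).1 (hs.dvd_of_dvd_pow h1))
    · exact Or.inr ((Nat.prime_dvd_prime_iff_eq hs hr).1 (hs.dvd_of_dvd_pow h1))
  have hHfpf := h.mono hH hA
  have hkey : ∀ s : ℕ, [Fact s.Prime] → (s = p ∨ s = r) → syl A L s = syl A H s := by
    intro s _ hs
    refine Subgroup.eq_of_le_of_card_ge (hHfpf.syl_mono hLH hLA) ?_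
    rw [hHfpf.syl_card, (hHfpf.mono hLH hLA).syl_card, hLc, hm,
      Nat.factorization_mul (pow_ne_zero _ hp.ne_zero) (pow_ne_zero _ hr.ne_zero),
      hp.factorization_pow, hr.factorization_pow, Finsupp.add_apply, Finsupp.single_apply,
      Finsupp.single_apply]
    rcases hs with rfl | rfl
    · rw [if_pos rfl, if_neg hpr.symm, add_zero]
    · rw [if_neg hpr, if_pos rfl, zero_add]
  exact ⟨L, hLH, hLA, hPR, hkey p (Or.inl rfl), hkey r (Or.inr rfl)⟩

end Fpf

/-- Normalizers grow. -/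
theorem exists_gt_normalizer {p : ℕ} [Fact p.Prime] {P D : Subgroup X} (hP : IsPGroup p P)
    (hD : D ≤ P) (hne : D ≠ P) : ∃ x ∈ P, x ∈ normalizer (D : Set X) ∧ x ∉ D := by
  have := hP.isNilpotent
  have hlt : D.subgroupOf P < ⊤ := lt_top_iff_ne_top.2 fun e =>
    hne (le_antisymm hD (subgroupOf_eq_top.1 e))
  obtain ⟨x, hx, hxD⟩ := SetLike.exists_of_lt (Group.normalizerCondition_of_isNilpotent _ hlt)
  refine ⟨x, x.2, ?_, hxD⟩
  rw [mem_normalizer_iff]
  intro z
  constructor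
  · intro hz
    exact (mem_normalizer_iff.1 hx ⟨z, hD hz⟩).1 hz
  · intro hz
    have hzP : z ∈ P := by
      have := mul_mem (mul_mem (inv_mem x.2) (hD hz)) x.2
      simpa [mul_assoc] using this
    exact (mem_normalizer_iff.1 hx ⟨z, hzP⟩).2 hz

end Cfsg.Agent.AbelianFixed
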