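import Cfsg.Agent.Lib.AbelianFixed.Key
import Cfsg.Agent.Lib.AbelianFixed.Sylow

/-!
Two-prime invariant subgroups: the Sylow subgroup times the opposite core is normal.
-/

set_option autoImplicit false

namespace Cfsg.Agent.AbelianFixed

open Subgroup
open scoped commutatorElement
open Cfsg.Agent.CoprimeAct Cfsg.Agent.SolvBasic

universe u

variable {X : Type u} [Group X] [Finite X] {q p r : ℕ} {A G : Subgroup X}

theorem exists_central_mod [Fact p.Prime] {P K : Subgroup X} (hP : IsPGroup p P) (hK : K ≤ P)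
    (hn : P ≤ normalizer (K : Set X)) (hne : K ≠ P) :
    ∃ x ∈ P, x ∉ K ∧ ∀ y ∈ P, x * y * x⁻¹ * y⁻¹ ∈ K := by
  haveI hN : (K.subgroupOf P).Normal := normal_subgroupOf_of_le_normalizer hn
  haveI : Nontrivial (↥P ⧸ K.subgroupOf P) := by
    refine QuotientGroup.nontrivial_iff.2 fun e => hne (le_antisymm hK (subgroupOf_eq_top.1 e))
  haveI := IsPGroup.center_nontrivial (hP.to_quotient (K.subgroupOf P))
  obtain ⟨z, hz⟩ := exists_ne (1 : Subgroup.center (↥P ⧸ K.subgroupOf P))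
  obtain ⟨x, hx⟩ := QuotientGroup.mk_surjective (z : ↥P ⧸ K.subgroupOf P)
  refine ⟨x, x.2, fun hxK => hz (Subtype.ext ?_), fun y hy => ?_⟩
  · rw [← hx]
    exact (QuotientGroup.eq_one_iff x).2 hxK
  · have h1 : ((⁅x, (⟨y, hy⟩ : P)⁆ : ↥P) : ↥P ⧸ K.subgroupOf P) = 1 := by
      rw [show ((⁅x, (⟨y, hy⟩ : P)⁆ : ↥P) : ↥P ⧸ K.subgroupOf P) =
        ⁅(x : ↥P ⧸ K.subgroupOf P), ((⟨y, hy⟩ : P) : ↥P ⧸ K.subgroupOf P)⁆ from
        map_commutatorElement (QuotientGroup.mk' _) _ _, commutatorElement_eq_one_iff_mul_comm, hx]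
      exact (Subgroup.mem_center_iff.1 z.2 _).symm
    have h2 := (QuotientGroup.eq_one_iff _).1 h1
    rwa [mem_subgroupOf] at h2

theorem inf_centralizer_inf_commutator {V Z : Subgroup X}
    (hV : ∀ x ∈ V, ∀ y ∈ V, x * y = y * x) (hZV : Z ≤ normalizer (V : Set X))
    (hcop : (Nat.card Z).Coprime (Nat.card V)) :
    (V ⊓ centralizer (Z : Set X)) ⊓ ⁅V, Z⁆ = ⊥ :=
  haveI : IsMulCommutative V := ⟨⟨fun a b => Subtype.ext (hV a a.2 b b.2)⟩⟩
  centralizer_inf_commutator_eq_bot hZV hcop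

theorem norm_commutator {B U V : Subgroup X} (hU : B ≤ normalizer (U : Set X))
    (hV : B ≤ normalizer (V : Set X)) : B ≤ normalizer ((⁅U, V⁆ : Subgroup X) : Set X) := by
  intro g hg
  have key : ⁅U, V⁆.map (MulAut.conj g).toMonoidHom = ⁅U, V⁆ := by
    rw [Subgroup.map_commutator]
    congr 1
    · exact mem_normalizer_iff_conjSmul.1 (hU hg)
    · exact mem_normalizer_iff_conjSmul.1 (hV hg)
  exact mem_normalizer_iff_conjSmul.2 key

namespace Fpf

variable (h : Fpf q A G)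
include h

/-- A part of another type centralizes `[V, Z]`. -/
theorem part_centralizes [Fact p.Prime] {V Z B : Subgroup X} {a b : X} (hVG : V ≤ G)
    (hVp : IsPGroup p V) (hVA : A ≤ normalizer (V : Set X)) (hV : ∀ x ∈ V, ∀ y ∈ V, x * y = y * x)
    (ha : a ∈ A) (ha1 : a ≠ 1) (hb : b ∈ A) (hab : a ∉ zpowers b) (hb1 : b ≠ 1)
    (hZG : Z ≤ G) (hZA : A ≤ normalizer (Z : Set X)) (hZV : Z ≤ normalizer (V : Set X))
    (hZa : Z ≤ centralizer ({a} : Set X)) (hcopZ : (Nat.card Z).Coprime (Nat.card V))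
    (hBG : B ≤ G) (hBA : A ≤ normalizer (B : Set X)) (hBV : B ≤ normalizer ((⁅V, Z⁆ : Subgroup X) : Set X))
    (hBb : B ≤ centralizer ({b} : Set X)) (hcopB : (Nat.card B).Coprime (Nat.card V)) :
    B ≤ centralizer ((⁅V, Z⁆ : Subgroup X) : Set X) := by
  have hUV : ⁅V, Z⁆ ≤ V := commutator_le_left hZV
  have := h.toSetup.hq
  refine key (r := p) (q := q) (e := a) h.hq (h.exp_A a ha) (hVp.to_le hUV)
    (norm_commutator hVA hZA ha) (hBA ha)
    (fun hd => h.cop (hd.trans (card_dvd_of_le (hUV.trans hVG)))) hBV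
    (hcopB.coprime_dvd_right (card_dvd_of_le hUV))
    (h.part_inf hb hb1 ha hab hBG hBb) fun s hs has z _ => ?_
  have h1 : s ∈ (V ⊓ centralizer (Z : Set X)) ⊓ ⁅V, Z⁆ := by
    refine Subgroup.mem_inf.2 ⟨Subgroup.mem_inf.2 ⟨hUV hs, mem_centralizer_iff.2 fun x hx => ?_⟩, hs⟩
    exact h.ab a ha ha1 x (hZG hx) s (hVG (hUV hs)) (mem_centralizer_one.1 (hZa hx)) has
  rw [inf_centralizer_inf_commutator hV hZV hcopZ, mem_bot] at h1
  rw [h1, mul_one, one_mul]

theorem commutator_le_centralizer [Fact p.Prime] [Fact r.Prime] (hpr : p ≠ r) :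
    ∀ {V R : Subgroup X}, V ≤ G → IsPGroup p V → A ≤ normalizer (V : Set X) →
      (∀ x ∈ V, ∀ y ∈ V, x * y = y * x) → R ≤ G → IsPGroup r R → A ≤ normalizer (R : Set X) →
      R ≤ normalizer (V : Set X) → ⁅R, R⁆ ≤ centralizer (V : Set X) := by
  intro V
  induction hn : Nat.card V using Nat.strong_induction_on generalizing V with
  | _ n ih =>
  intro R hVG hVp hVA hV hRG hRr hRA hRV
  set K := R ⊓ centralizer (V : Set X) with hK
  by_cases hKR : K = R
  · exact (commutator_mono (hKR ▸ inf_le_right : R ≤ centralizer (V : Set X)) le_rfl).trans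
      ((commutator_mono le_rfl (hKR ▸ inf_le_right : R ≤ centralizer (V : Set X))).trans
        (commutator_le_self _))
  have hRCV : R ≤ normalizer (centralizer (V : Set X) : Set X) :=
    AbelianFixed.norm_centralizer hRV
  have hRK : R ≤ normalizer (K : Set X) := norm_inf le_normalizer hRCV
  have hKA : A ≤ normalizer (K : Set X) := norm_inf hRA (AbelianFixed.norm_centralizer hVA)
  let Z : Subgroup X :=
    { carrier := {x | x ∈ R ∧ ∀ y ∈ R, x * y * x⁻¹ * y⁻¹ ∈ K}
      one_mem' := ⟨one_mem _, fun y _ => by simp⟩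
      mul_mem' := by
        rintro a b ⟨ha, ha'⟩ ⟨hb, hb'⟩
        refine ⟨mul_mem ha hb, fun y hy => ?_⟩
        have : a * b * y * (a * b)⁻¹ * y⁻¹ =
            a * (b * y * b⁻¹ * y⁻¹) * a⁻¹ * (a * y * a⁻¹ * y⁻¹) := by group
        rw [this]
        exact mul_mem (conj_mem_of_mem_normalizer (hRK ha) (hb' y hy)) (ha' y hy)
      inv_mem' := by
        rintro a ⟨ha, ha'⟩
        refine ⟨inv_mem ha, fun y hy => ?_⟩
        have : a⁻¹ * y * a⁻¹⁻¹ * y⁻¹ = a⁻¹ * (a * y * a⁻¹ * y⁻¹)⁻¹ * a⁻¹⁻¹ := by group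
        rw [this]
        exact conj_mem_of_mem_normalizer (inv_mem (hRK ha)) (inv_mem (ha' y hy)) }
  have hZR : Z ≤ R := fun x hx => hx.1
  have hZA : A ≤ normalizer (Z : Set X) := fun a ha => by
    rw [mem_normalizer_iff]
    have hone : ∀ b ∈ normalizer (R : Set X), b ∈ normalizer (K : Set X) →
        ∀ x ∈ Z, b * x * b⁻¹ ∈ Z := fun b hb hbK x hx => ⟨conj_mem_of_mem_normalizer hb hx.1,
      fun y hy => by
        have h1 := conj_mem_of_mem_normalizer hbK
          (hx.2 _ (conj_mem_of_mem_normalizer (inv_mem hb) hy))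
        have h2 : b * (x * (b⁻¹ * y * b⁻¹⁻¹) * x⁻¹ * (b⁻¹ * y * b⁻¹⁻¹)⁻¹) * b⁻¹ =
            b * x * b⁻¹ * y * (b * x * b⁻¹)⁻¹ * y⁻¹ := by group
        rwa [h2] at h1⟩
    intro x
    refine ⟨hone a (hRA ha) (hKA ha) x, fun hx => ?_⟩
    have := hone a⁻¹ (inv_mem (hRA ha)) (inv_mem (hKA ha)) _ hx
    simpa [mul_assoc] using this
  obtain ⟨x₀, hx₀, hx₀K, hx₀c⟩ := exists_central_mod hRr inf_le_left hRK hKR
  obtain ⟨a, ha, ha1, hZa⟩ : ∃ a ∈ A, a ≠ 1 ∧ ¬ (Z ⊓ centralizer ({a} : Set X) ≤ K) := by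
    by_contra hcon
    push Not at hcon
    exact hx₀K (h.toSetup.le_of_parts (hZR.trans hRG) hZA hcon ⟨hx₀, hx₀c⟩)
  set Za := Z ⊓ centralizer ({a} : Set X) with hZadef
  have hZaR : Za ≤ R := inf_le_left.trans hZR
  have hZaA : A ≤ normalizer (Za : Set X) := norm_inf hZA (h.toSetup.norm_centralizer_elt ha)
  have hZaV : Za ≤ normalizer (V : Set X) := hZaR.trans hRV
  have hcopRV : (Nat.card R).Coprime (Nat.card V) := pr_coprime hpr.symm hRr hVp
  have hcopZa : (Nat.card Za).Coprime (Nat.card V) := hcopRV.coprime_dvd_left (card_dvd_of_le hZaR)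
  set U := ⁅V, Za⁆ with hU
  set W := V ⊓ centralizer (Za : Set X) with hW
  have hUV : U ≤ V := commutator_le_left hZaV
  have hcommK : ∀ y ∈ R, ∀ x ∈ Za, ∀ v ∈ V, (y * x * y⁻¹) * v * (y * x * y⁻¹)⁻¹ = x * v * x⁻¹ := by
    intro y hy x hx v hv
    have hk : (x * y * x⁻¹ * y⁻¹)⁻¹ ∈ K := inv_mem (hx.1.2 y hy)
    have hk2 := mem_centralizer_iff.1 hk.2 (x * v * x⁻¹) (conj_mem_of_mem_normalizer (hZaV hx) hv)
    calc (y * x * y⁻¹) * v * (y * x * y⁻¹)⁻¹
        = (x * y * x⁻¹ * y⁻¹)⁻¹ * (x * v * x⁻¹) * (x * y * x⁻¹ * y⁻¹) := by group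
      _ = (x * v * x⁻¹) * (x * y * x⁻¹ * y⁻¹)⁻¹ * (x * y * x⁻¹ * y⁻¹) := by rw [← hk2]
      _ = x * v * x⁻¹ := by rw [inv_mul_cancel_right]
  have hRW : R ≤ normalizer (W : Set X) := by
    intro y hy
    have key : ∀ y ∈ R, ∀ v ∈ W, y * v * y⁻¹ ∈ W := by
      intro y hy v hv
      refine Subgroup.mem_inf.2 ⟨conj_mem_of_mem_normalizer (hRV hy) hv.1, mem_centralizer_iff.2 fun x hx => ?_⟩
      have h1 := hcommK y⁻¹ (inv_mem hy) x hx v hv.1
      rw [conj_eq_of_commute (mem_centralizer_iff.1 hv.2 x hx)] at h1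
      have h2 : x * (y * v * y⁻¹) * x⁻¹ = y * v * y⁻¹ := by
        calc x * (y * v * y⁻¹) * x⁻¹
            = y * ((y⁻¹ * x * y⁻¹⁻¹) * v * (y⁻¹ * x * y⁻¹⁻¹)⁻¹) * y⁻¹ := by group
          _ = y * v * y⁻¹ := by rw [h1]
      exact mul_inv_eq_iff_eq_mul.1 h2
    rw [mem_normalizer_iff]
    refine fun v => ⟨key y hy v, fun hv => ?_⟩
    have := key y⁻¹ (inv_mem hy) _ hv
    simpa [mul_assoc] using this
  have hRU : R ≤ normalizer (U : Set X) := by
    intro y hy
    have key : ∀ y ∈ R, U.map (MulAut.conj y).toMonoidHom ≤ U := by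
      intro y hy
      rw [hU, Subgroup.map_commutator, Subgroup.commutator_le]
      rintro _ ⟨v, hv, rfl⟩ _ ⟨x, hx, rfl⟩
      have hv' : y * v * y⁻¹ ∈ V := conj_mem_of_mem_normalizer (hRV hy) hv
      have h1 := hcommK y hy x hx (y * v * y⁻¹)⁻¹ (inv_mem hv')
      have h2 : ⁅y * v * y⁻¹, y * x * y⁻¹⁆ = ⁅y * v * y⁻¹, x⁆ := by
        rw [commutatorElement_def, commutatorElement_def]
        calc y * v * y⁻¹ * (y * x * y⁻¹) * (y * v * y⁻¹)⁻¹ * (y * x * y⁻¹)⁻¹
            = y * v * y⁻¹ * ((y * x * y⁻¹) * (y * v * y⁻¹)⁻¹ * (y * x * y⁻¹)⁻¹) := by group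
          _ = y * v * y⁻¹ * (x * (y * v * y⁻¹)⁻¹ * x⁻¹) := by rw [h1]
          _ = y * v * y⁻¹ * x * (y * v * y⁻¹)⁻¹ * x⁻¹ := by group
      show ⁅y * v * y⁻¹, y * x * y⁻¹⁆ ∈ ⁅V, Za⁆
      rw [h2]
      exact commutator_mem_commutator hv' hx
    rw [mem_normalizer_iff_conjSmul]
    refine Subgroup.eq_of_le_of_card_ge (key y hy) ?_
    rw [card_conjSmul]
  have hUA : A ≤ normalizer (U : Set X) := norm_commutator hVA hZaA
  have hWA : A ≤ normalizer (W : Set X) := norm_inf hVA (AbelianFixed.norm_centralizer hZaA)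
  have hWne : W ≠ V := fun e => hZa fun x hx => Subgroup.mem_inf.2 ⟨hZaR hx, mem_centralizer_iff.2 fun v hv =>
    ((mem_centralizer_iff.1 (show v ∈ W from e.symm ▸ hv).2 x hx)).symm⟩
  have hWlt : Nat.card W < n := by
    rw [← hn]
    by_contra hcon
    exact hWne (Subgroup.eq_of_le_of_card_ge inf_le_left (not_lt.1 hcon))
  have hCW : ⁅R, R⁆ ≤ centralizer (W : Set X) :=
    ih _ hWlt rfl (inf_le_left.trans hVG) (hVp.to_le inf_le_left) hWA
      (fun x hx y hy => hV x hx.1 y hy.1) hRG hRr hRA hRW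
  -- on `U`
  have hRUc : R ≤ normalizer (R ⊓ centralizer (U : Set X) : Subgroup X) := norm_inf le_normalizer
    (AbelianFixed.norm_centralizer hRU)
  have hgen : R ≤ (R ⊓ centralizer (U : Set X)) ⊔ (R ⊓ centralizer ({a} : Set X)) := by
    refine h.toSetup.le_of_parts hRG hRA fun b hb hb1 => ?_
    by_cases hab : a ∈ zpowers b
    · refine le_trans (fun x hx => ?_) le_sup_right
      exact Subgroup.mem_inf.2 ⟨hx.1, mem_centralizer_one.2 (h.toSetup.commute_of_zpowers hab
        (mem_centralizer_one.1 hx.2))⟩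
    · refine le_trans (le_inf inf_le_left ?_) le_sup_left
      exact h.part_centralizes (p := p) (a := a) (b := b) (Z := Za) hVG hVp hVA hV ha ha1 hb hab hb1
        (hZaR.trans hRG) hZaA hZaV inf_le_right hcopZa (inf_le_left.trans hRG)
        (norm_inf hRA (h.toSetup.norm_centralizer_elt hb))
        (inf_le_left.trans hRU) inf_le_right (hcopRV.coprime_dvd_left (card_dvd_of_le inf_le_left))
  have hCU : ⁅R, R⁆ ≤ centralizer (U : Set X) := by
    rw [Subgroup.commutator_le]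
    intro g hg g' hg'
    have hN : R ⊓ centralizer ({a} : Set X) ≤
        normalizer (R ⊓ centralizer (U : Set X) : Subgroup X) := inf_le_left.trans hRUc
    obtain ⟨c, hc, x, hx, rfl⟩ := (mem_sup_iff_of_le_normalizer hN).1 (hgen hg)
    obtain ⟨c', hc', x', hx', rfl⟩ := (mem_sup_iff_of_le_normalizer hN).1 (hgen hg')
    have hxx : x * x' = x' * x := h.ab a ha ha1 x (hRG hx.1) x' (hRG hx'.1)
      (mem_centralizer_one.1 hx.2) (mem_centralizer_one.1 hx'.2)
    set N' := R ⊓ centralizer (U : Set X)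
    have h1 : c * x * (c' * x') * (c * x)⁻¹ * (c' * x')⁻¹ =
        c * (x * c' * x⁻¹) * (x' * c⁻¹ * x'⁻¹) * c'⁻¹ * (c' * (x * x' * x⁻¹ * x'⁻¹) * c'⁻¹) := by
      have hxx' : x * x' * x⁻¹ = x' := by rw [hxx, mul_inv_cancel_right]
      have e1 : x * x' * x⁻¹ * x'⁻¹ = 1 := by rw [hxx', mul_inv_cancel]
      rw [e1, mul_one, mul_inv_cancel, mul_one]
      calc c * x * (c' * x') * (c * x)⁻¹ * (c' * x')⁻¹
          = c * (x * c' * x⁻¹) * ((x * x' * x⁻¹) * c⁻¹ * x'⁻¹) * c'⁻¹ := by group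
        _ = _ := by rw [hxx']
    rw [commutatorElement_def, h1, show x * x' * x⁻¹ * x'⁻¹ = 1 by
      rw [hxx, mul_inv_cancel_right, mul_inv_cancel], mul_one, mul_inv_cancel, mul_one]
    refine (inf_le_right : N' ≤ centralizer (U : Set X)) (mul_mem (mul_mem (mul_mem hc
      (conj_mem_of_mem_normalizer (hN hx) hc'))
      (conj_mem_of_mem_normalizer (hN hx') (inv_mem hc))) (inv_mem hc'))
  have hsup : W ⊔ U = V :=
    haveI : IsMulCommutative V := ⟨⟨fun a b => Subtype.ext (hV a a.2 b b.2)⟩⟩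
    centralizer_sup_commutator hZaV hcopZa
  intro g hg
  rw [mem_centralizer_iff]
  intro v hv
  have hle : V ≤ centralizer ({g} : Set X) := by
    rw [← hsup]
    refine sup_le (fun w hw => ?_) (fun w hw => ?_)
    · exact mem_centralizer_one.2 (mem_centralizer_iff.1 (hCW hg) w hw).symm
    · exact mem_centralizer_one.2 (mem_centralizer_iff.1 (hCU hg) w hw).symm
  exact (mem_centralizer_one.1 (hle hv)).symm

/-- The opposite prime part of the normalizer centralizes the middle part. -/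
theorem middle_centralizes [Fact p.Prime] [Fact r.Prime] (hpr : p ≠ r) {V R Q : Subgroup X}
    (hVG : V ≤ G) (hVp : IsPGroup p V) (hVA : A ≤ normalizer (V : Set X))
    (hV : ∀ x ∈ V, ∀ y ∈ V, x * y = y * x)
    (hRG : R ≤ G) (hRr : IsPGroup r R) (hRA : A ≤ normalizer (R : Set X))
    (hR : ∀ x ∈ R, ∀ y ∈ R, x * y = y * x) (hRV : R ≤ normalizer (V : Set X))
    (hfaith : R ⊓ centralizer (V : Set X) = ⊥)
    (hQG : Q ≤ G) (hQp : IsPGroup p Q) (hQA : A ≤ normalizer (Q : Set X))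
    (hQR : Q ≤ normalizer (R : Set X)) :
    Q ≤ centralizer (R : Set X) := by
  have hcopRV : (Nat.card R).Coprime (Nat.card V) := pr_coprime hpr.symm hRr hVp
  refine h.toSetup.le_of_parts hQG hQA fun b hb hb1 => ?_
  set Qb := Q ⊓ centralizer ({b} : Set X) with hQb
  let U : X → Subgroup X := fun d => R ⊓ centralizer ({d} : Set X)
  have hUA : ∀ d ∈ A, A ≤ normalizer (U d : Set X) := fun d hd =>
    norm_inf hRA (h.toSetup.norm_centralizer_elt hd)
  let K : X → Subgroup X := fun d =>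
    R ⊓ centralizer ((⁅V, U d⁆ ⊓ centralizer ({b} : Set X) : Subgroup X) : Set X)
  have hUV : ∀ d, U d ≤ normalizer (V : Set X) := fun d => inf_le_left.trans hRV
  have hcopU : ∀ d, (Nat.card (U d)).Coprime (Nat.card V) := fun d =>
    hcopRV.coprime_dvd_left (card_dvd_of_le inf_le_left)
  have hK1 : ∀ d ∈ A, d ≠ 1 → ∀ e ∈ A, e ≠ 1 → d ∉ zpowers e → U e ≤ K d := by
    intro d hd hd1 e he he1 hde
    refine le_inf inf_le_left (le_trans ?_ (centralizer_le (fun v hv => hv.1)))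
    refine h.part_centralizes (p := p) (a := d) (b := e) (Z := U d) hVG hVp hVA hV hd hd1 he hde he1
      (inf_le_left.trans hRG) (hUA d hd) (hUV d) inf_le_right (hcopU d)
      (inf_le_left.trans hRG) (hUA e he) ?_ inf_le_right (hcopU e)
    exact norm_commutator (hUV e) (fun x hx => by
      rw [mem_normalizer_iff]
      intro y
      have hcx : ∀ z ∈ U d, x * z * x⁻¹ = z := fun z hz =>
        conj_eq_of_commute (hR x hx.1 z hz.1)
      constructor
      · intro hy; rwa [hcx y hy]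
      · intro hy
        have := hcx _ hy
        have h2 : x * y * x⁻¹ = y := mul_left_cancel (mul_right_cancel this)
        rwa [h2] at hy)
  have hK2 : ∀ d ∈ A, d ≠ 1 → d ∉ zpowers b → K d ⊓ U d = ⊥ := by
    intro d hd hd1 hdb
    set T := K d ⊓ U d with hT
    have hTR : T ≤ R := inf_le_left.trans inf_le_left
    have hTA : A ≤ normalizer (T : Set X) := norm_inf
      (norm_inf hRA (AbelianFixed.norm_centralizer (norm_inf (norm_commutator hVA (hUA d hd))
        (h.toSetup.norm_centralizer_elt hb)))) (hUA d hd)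
    have hbd : b ∉ zpowers d := fun hbd => hdb (h.toSetup.mem_zpowers_symm hd hb1 hbd)
    have hT1 : T ≤ centralizer ((⁅V, U d⁆ : Subgroup X) : Set X) := by
      refine key (r := p) (q := q) (e := b) h.hq (h.exp_A b hb)
        (hVp.to_le (commutator_le_left (hUV d))) (norm_commutator hVA (hUA d hd) hb) (hTA hb)
        (fun hd' => h.cop (hd'.trans (card_dvd_of_le ((commutator_le_left (hUV d)).trans hVG))))
        ?_ ?_ (h.part_inf hd hd1 hb hbd (hTR.trans hRG) (inf_le_right.trans inf_le_right))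
        fun s hs hbs z hz => ?_
      · exact norm_commutator (hTR.trans hRV) ((inf_le_right : T ≤ U d).trans le_normalizer)
      · exact (hcopU d).coprime_dvd_left (card_dvd_of_le inf_le_right) |>.coprime_dvd_right
          (card_dvd_of_le (commutator_le_left (hUV d)))
      · exact (mem_centralizer_iff.1 (inf_le_right (a := R) (inf_le_left (b := U d) hz)) s
          (Subgroup.mem_inf.2 ⟨hs, mem_centralizer_one.2 hbs⟩)).symm
    refine eq_bot_iff.2 (le_trans (le_inf hTR ?_) hfaith.le)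
    have hsup : (V ⊓ centralizer (U d : Set X)) ⊔ ⁅V, U d⁆ = V :=
      haveI : IsMulCommutative V := ⟨⟨fun a b => Subtype.ext (hV a a.2 b b.2)⟩⟩
      centralizer_sup_commutator (hUV d) (hcopU d)
    intro t ht
    rw [mem_centralizer_iff]
    intro v hv
    have hle : V ≤ centralizer ({t} : Set X) := by
      rw [← hsup]
      refine sup_le (fun w hw => mem_centralizer_one.2 ?_) (fun w hw => mem_centralizer_one.2 ?_)
      · exact mem_centralizer_iff.1 hw.2 t ht.2
      · exact (mem_centralizer_iff.1 (hT1 ht) w hw).symm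
    exact (mem_centralizer_one.1 (hle hv)).symm
  have hQK : ∀ d ∈ A, Qb ≤ normalizer (K d : Set X) := by
    intro d _ u hu
    refine norm_inf (inf_le_left.trans hQR) ?_ hu
    refine AbelianFixed.norm_centralizer fun w hw => ?_
    rw [mem_normalizer_iff]
    have hcw : ∀ v ∈ ⁅V, U d⁆ ⊓ centralizer ({b} : Set X), w * v * w⁻¹ = v := fun v hv =>
      conj_eq_of_commute (h.ab b hb hb1 w (hQG hw.1) v (hVG (commutator_le_left (hUV d) hv.1))
        (mem_centralizer_one.1 hw.2) (mem_centralizer_one.1 hv.2))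
    intro v
    constructor
    · intro hv; rwa [hcw v hv]
    · intro hv
      have h2 : w * v * w⁻¹ = v := mul_left_cancel (mul_right_cancel (hcw _ hv))
      rwa [h2] at hv
  intro u hu
  rw [mem_centralizer_iff]
  intro x hx
  have hle : R ≤ centralizer ({u} : Set X) := by
    refine h.toSetup.le_of_parts hRG hRA fun c hc hc1 x hx => mem_centralizer_one.2 ?_
    by_cases hcb : c ∈ zpowers b
    · exact h.ab b hb hb1 u (hQG hu.1) x (hRG hx.1) (mem_centralizer_one.1 hu.2)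
        (h.toSetup.commute_of_zpowers (h.toSetup.mem_zpowers_symm hb hc1 hcb)
          (mem_centralizer_one.1 hx.2))
    have hbc : b ∉ zpowers c := fun hbc => hcb (h.toSetup.mem_zpowers_symm hc hb1 hbc)
    -- the two types `b`, `c` span an invariant piece
    let J : Subgroup X := R ⊓ ⨅ (d : X) (_ : d ∈ A ∧ d ≠ 1 ∧ d ∉ zpowers b ∧ d ∉ zpowers c), K d
    have hJA : A ≤ normalizer (J : Set X) := fun a ha => by
      rw [mem_normalizer_iff]
      intro y
      rw [Subgroup.mem_inf, Subgroup.mem_inf]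
      simp only [Subgroup.mem_iInf]
      refine and_congr (mem_normalizer_iff.1 (hRA ha) y) (forall₂_congr fun d hd => ?_)
      exact mem_normalizer_iff.1 (norm_inf hRA (AbelianFixed.norm_centralizer (norm_inf
        (norm_commutator hVA (hUA d hd.1)) (h.toSetup.norm_centralizer_elt hb))) ha) y
    have hJle : J ≤ U b ⊔ U c := by
      refine h.toSetup.le_of_parts (inf_le_left.trans hRG) hJA fun d hd hd1 y hy => ?_
      by_cases hdb : d ∈ zpowers b
      · exact mem_sup_left (Subgroup.mem_inf.2 ⟨hy.1.1, mem_centralizer_one.2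
          (h.toSetup.commute_of_zpowers (h.toSetup.mem_zpowers_symm hb hd1 hdb)
            (mem_centralizer_one.1 hy.2))⟩)
      by_cases hdc : d ∈ zpowers c
      · exact mem_sup_right (Subgroup.mem_inf.2 ⟨hy.1.1, mem_centralizer_one.2
          (h.toSetup.commute_of_zpowers (h.toSetup.mem_zpowers_symm hc hd1 hdc)
            (mem_centralizer_one.1 hy.2))⟩)
      have h1 : y ∈ K d := by
        have := (Subgroup.mem_inf.1 hy.1).2
        simp only [Subgroup.mem_iInf] at this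
        exact this d ⟨hd, hd1, hdb, hdc⟩
      have h2 : y ∈ K d ⊓ U d := Subgroup.mem_inf.2 ⟨h1, Subgroup.mem_inf.2 ⟨hy.1.1, hy.2⟩⟩
      rw [hK2 d hd hd1 hdb, mem_bot] at h2
      rw [h2]
      exact one_mem _
    have hxJ : x ∈ J := by
      refine Subgroup.mem_inf.2 ⟨hx.1, ?_⟩
      simp only [Subgroup.mem_iInf]
      exact fun d hd => hK1 d hd.1 hd.2.1 c hc hc1 hd.2.2.2 hx
    have hmove : ∀ u ∈ Qb, u⁻¹ * (c * u * c⁻¹) * x = x * (u⁻¹ * (c * u * c⁻¹)) := by
      intro u hu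
      have hyJ : u * x * u⁻¹ ∈ J := by
        refine Subgroup.mem_inf.2 ⟨conj_mem_of_mem_normalizer (hQR hu.1) hxJ.1, ?_⟩
        have := (Subgroup.mem_inf.1 hxJ).2
        simp only [Subgroup.mem_iInf] at this ⊢
        exact fun d hd => conj_mem_of_mem_normalizer (hQK d hd.1 hu) (this d hd)
      have hUbc : U c ≤ normalizer (U b : Set X) := fun z hz => by
        rw [mem_normalizer_iff]
        have hcz : ∀ w ∈ U b, z * w * z⁻¹ = w := fun w hw => conj_eq_of_commute (hR z hz.1 w hw.1)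
        intro w
        constructor
        · intro hw; rwa [hcz w hw]
        · intro hw
          have h2 : z * w * z⁻¹ = w := mul_left_cancel (mul_right_cancel (hcz _ hw))
          rwa [h2] at hw
      obtain ⟨s, hs, t, ht, hst⟩ := (mem_sup_iff_of_le_normalizer hUbc).1 (hJle hyJ)
      -- commutators with `c`
      have hcu : ∀ v ∈ Qb, c * v * c⁻¹ ∈ Qb := fun v hv =>
        conj_mem_of_mem_normalizer (norm_inf hQA (h.toSetup.norm_centralizer_elt hb) hc) hv
      set σ := s⁻¹ * (c * s * c⁻¹) with hσ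
      have hσb : σ ∈ U b := mul_mem (inv_mem hs) (conj_mem_of_mem_normalizer (hUA b hb hc) hs)
      set w := u⁻¹ * (c * u * c⁻¹) with hw
      have hwQ : w ∈ Qb := mul_mem (inv_mem hu) (hcu u hu)
      have hcx : c * x * c⁻¹ = x := conj_eq_of_commute (mem_centralizer_one.1 hx.2)
      have hct : c * t * c⁻¹ = t := conj_eq_of_commute (mem_centralizer_one.1 ht.2)
      have hus : u⁻¹ * s * u = s := by
        rw [show u⁻¹ * s * u = u⁻¹ * (s * u) by group,
          ← h.ab b hb hb1 u (hQG hu.1) s (hRG hs.1) (mem_centralizer_one.1 hu.2)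
            (mem_centralizer_one.1 hs.2), inv_mul_cancel_left]
      have hucs : u⁻¹ * (c * s * c⁻¹) * u = c * s * c⁻¹ := by
        have hcs := conj_mem_of_mem_normalizer (hUA b hb hc) hs
        rw [show u⁻¹ * (c * s * c⁻¹) * u = u⁻¹ * ((c * s * c⁻¹) * u) by group,
          ← h.ab b hb hb1 u (hQG hu.1) _ (hRG hcs.1) (mem_centralizer_one.1 hu.2)
            (mem_centralizer_one.1 hcs.2), inv_mul_cancel_left]
      have hwx : w * x * w⁻¹ = σ * x := by
        have h1 : c * (u * x * u⁻¹) * c⁻¹ = (c * s * c⁻¹) * t := by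
          rw [hst, show c * (s * t) * c⁻¹ = (c * s * c⁻¹) * (c * t * c⁻¹) by group, hct]
        have h2 : u⁻¹ * t * u = (u⁻¹ * s * u)⁻¹ * x := by
          rw [show t = s⁻¹ * (u * x * u⁻¹) by rw [hst, inv_mul_cancel_left]]
          group
        calc w * x * w⁻¹ = u⁻¹ * ((c * u * c⁻¹) * (c * x * c⁻¹) * (c * u * c⁻¹)⁻¹) * u := by
              rw [hw, hcx]; group
          _ = u⁻¹ * (c * (u * x * u⁻¹) * c⁻¹) * u := by group
          _ = (u⁻¹ * (c * s * c⁻¹) * u) * (u⁻¹ * t * u) := by rw [h1]; group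
          _ = (c * s * c⁻¹) * (s⁻¹ * x) := by rw [hucs, h2, hus]
          _ = σ * x := by
              rw [hσ, ← mul_assoc, hR _ (conj_mem_of_mem_normalizer (hRA hc) hs.1) _ (inv_mem hs.1)]
      have hwσ : w * σ * w⁻¹ = σ := conj_eq_of_commute
        (h.ab b hb hb1 w (hQG hwQ.1) σ (hRG hσb.1) (mem_centralizer_one.1 hwQ.2)
          (mem_centralizer_one.1 hσb.2))
      have hpow : ∀ n : ℕ, w ^ n * x * (w ^ n)⁻¹ = σ ^ n * x := by
        intro n
        induction n with
        | zero => simp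
        | succ n ih =>
          calc w ^ (n + 1) * x * (w ^ (n + 1))⁻¹ = w * (w ^ n * x * (w ^ n)⁻¹) * w⁻¹ := by
                rw [pow_succ' w n]; group
            _ = (w * σ ^ n * w⁻¹) * (w * x * w⁻¹) := by rw [ih]; group
            _ = σ ^ n * (σ * x) := by rw [← conj_pow, hwσ, hwx]
            _ = σ ^ (n + 1) * x := by rw [← mul_assoc, ← pow_succ]
      obtain ⟨k, hk⟩ := hQp ⟨w, hwQ.1⟩
      have hwk : w ^ p ^ k = 1 := congrArg Subtype.val hk
      have hσk : σ ^ p ^ k = 1 := by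
        have := hpow (p ^ k)
        rw [hwk, one_mul, inv_one, mul_one] at this
        exact right_eq_mul.1 this
      obtain ⟨m, hm⟩ := hRr ⟨σ, hσb.1⟩
      have hσm : σ ^ r ^ m = 1 := congrArg Subtype.val hm
      have hσ1 : σ = 1 := orderOf_eq_one_iff.1 (Nat.dvd_one.1 (
        ((Nat.coprime_primes Fact.out Fact.out).2 hpr).pow k m ▸
          Nat.dvd_gcd (orderOf_dvd_of_pow_eq_one hσk) (orderOf_dvd_of_pow_eq_one hσm)))
      rw [hσ1, one_mul] at hwx
      exact mul_inv_eq_iff_eq_mul.1 hwx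
    -- every element of the part is of the form `v⁻¹ (c v c⁻¹)`
    have hcu' : ∀ v ∈ Qb, v⁻¹ * (c * v * c⁻¹) ∈ Qb := fun v hv => mul_mem (inv_mem hv)
      (conj_mem_of_mem_normalizer (norm_inf hQA (h.toSetup.norm_centralizer_elt hb) hc) hv)
    let f : Qb → Qb := fun v => ⟨(v : X)⁻¹ * (c * v * c⁻¹), hcu' v v.2⟩
    have hf : Function.Surjective f := by
      refine Finite.injective_iff_surjective.1 fun v v' hvv => ?_
      have h1 : (v : X)⁻¹ * (c * v * c⁻¹) = (v' : X)⁻¹ * (c * v' * c⁻¹) := congrArg Subtype.val hvv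
      have h2 : c * ((v' : X) * (v : X)⁻¹) * c⁻¹ = (v' : X) * (v : X)⁻¹ := by
        calc c * ((v' : X) * (v : X)⁻¹) * c⁻¹
            = (v' : X) * ((v' : X)⁻¹ * (c * v' * c⁻¹)) * ((v : X)⁻¹ * (c * v * c⁻¹))⁻¹ * (v : X)⁻¹ := by group
          _ = _ := by rw [h1, mul_inv_cancel_right]
      have h3 := h.eq_one hc hc1 hb hbc (hQG (mul_mem v'.2.1 (inv_mem v.2.1)))
        (mul_inv_eq_iff_eq_mul.1 h2) (mem_centralizer_one.1 (mul_mem v'.2.2 (inv_mem v.2.2)))
      exact Subtype.ext (mul_inv_eq_one.1 h3).symm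
    obtain ⟨v, hv⟩ := hf ⟨u, hu⟩
    have hv' : (v : X)⁻¹ * (c * v * c⁻¹) = u := congrArg Subtype.val hv
    rw [← hv']
    exact hmove v v.2
  exact (mem_centralizer_one.1 (hle hx)).symm

end Fpf

end Cfsg.Agent.AbelianFixed
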